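import Mathlib
import Cfsg.Agent.Characters.Core
import Cfsg.Agent.Characters.Linear
import Cfsg.Agent.CharactersDeep.FeitOddAux
set_option linter.all false

/-!
# The Frobenius-Schur count of square roots
-/

set_option autoImplicit false
open Cfsg

namespace Cfsg.Agent.H604.FS

open Cfsg.Agent.Characters.Core
open scoped ComplexConjugate

/-- The Frobenius-Schur indicator (as an integer) of an irreducible character. -/
noncomputable def ind {G : Type*} [Group G] [Fintype G] (χ : IrrCharacter G) : ℤ :=
  Classical.choose (CharactersDeep.FeitOddAux.exists_indicator χ.2)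

theorem ind_spec {G : Type*} [Group G] [Fintype G] (χ : IrrCharacter G) :
    (ind χ = 0 ∨ ind χ = 1 ∨ ind χ = -1) ∧
      (Nat.card G : ℂ)⁻¹ * ∑ s : G, (χ : G → ℂ) (s * s) = ind χ ∧
      (ind χ = 0 ↔ ∃ g, ((χ : G → ℂ) g).im ≠ 0) :=
  Classical.choose_spec (CharactersDeep.FeitOddAux.exists_indicator χ.2)

/-- The number of square roots of `w` is `∑ ν(χ) χ(w)`. -/
theorem sum_ind {G : Type*} [Group G] [Fintype G] [Fintype (IrrCharacter G)] (w : G) :
    ∑ χ : IrrCharacter G, (ind χ : ℂ) * (χ : G → ℂ) w = Nat.card {u : G // u * u = w} := by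
  classical
  set f : G → ℂ := fun g => ((Finset.univ.filter (fun u : G => u * u = g)).card : ℂ) with hf
  have hcl : IsClassFunction G f := by
    intro g h
    simp only [hf]
    congr 1
    refine Finset.card_bij (fun u _ => h⁻¹ * u * h) ?_ ?_ ?_
    · intro u hu
      simp only [Finset.mem_filter, Finset.mem_univ, true_and] at hu ⊢
      have : h⁻¹ * u * h * (h⁻¹ * u * h) = h⁻¹ * (u * u) * h := by group
      rw [this, hu]; group
    · intro u _ v _ huv
      simpa using huv
    · intro u hu
      simp only [Finset.mem_filter, Finset.mem_univ, true_and] at hu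
      refine ⟨h * u * h⁻¹, ?_, by group⟩
      simp only [Finset.mem_filter, Finset.mem_univ, true_and]
      have : h * u * h⁻¹ * (h * u * h⁻¹) = h * (u * u) * h⁻¹ := by group
      rw [this, hu]
  have hexp := congrFun (classFunction_eq_sum hcl) w
  rw [Finset.sum_apply] at hexp
  have hcoef : ∀ χ : IrrCharacter G, classInner f (χ : G → ℂ) = ind χ := by
    intro χ
    have e1 : classInner f (χ : G → ℂ) =
        conj ((Nat.card G : ℂ)⁻¹ * ∑ s : G, (χ : G → ℂ) (s * s)) := by
      unfold classInner
      rw [map_mul, map_inv₀, map_natCast, map_sum]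
      congr 1
      have : ∀ g : G, f g * conj ((χ : G → ℂ) g) =
          ∑ u ∈ Finset.univ.filter (fun u : G => u * u = g), conj ((χ : G → ℂ) (u * u)) := by
        intro g
        rw [Finset.sum_congr rfl (g := fun _ => conj ((χ : G → ℂ) g))]
        · simp only [hf, Finset.sum_const, nsmul_eq_mul]
        · intro u hu
          rw [(Finset.mem_filter.1 hu).2]
      rw [Finset.sum_congr rfl (fun g _ => this g)]
      exact Finset.sum_fiberwise (Finset.univ : Finset G) (fun u : G => u * u)
        (fun u : G => conj ((χ : G → ℂ) (u * u)))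
    rw [e1, (ind_spec χ).2.1, map_intCast]
  have h2 : f w = Nat.card {u : G // u * u = w} := by
    simp only [hf]
    rw [Nat.card_eq_fintype_card, Fintype.card_subtype]
  rw [← h2, hexp]
  refine Finset.sum_congr rfl fun χ _ => ?_
  rw [Pi.smul_apply, smul_eq_mul, hcoef]

/-- `1 + t` where `t` is the number of involutions. -/
theorem card_sq_eq_one {G : Type*} [Group G] [Finite G] :
    Nat.card {u : G // u * u = 1} = 1 + Nat.card {x : G // orderOf x = 2} := by
  classical
  have := Fintype.ofFinite G
  rw [Nat.card_eq_fintype_card, Nat.card_eq_fintype_card, Fintype.card_subtype,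
    Fintype.card_subtype]
  have h : (Finset.univ.filter (fun u : G => u * u = 1)) =
      insert 1 (Finset.univ.filter (fun u : G => orderOf u = 2)) := by
    ext u
    simp only [Finset.mem_filter, Finset.mem_univ, true_and, Finset.mem_insert]
    constructor
    · intro hu
      by_cases h1 : u = 1
      · exact Or.inl h1
      · exact Or.inr (orderOf_eq_prime (by rw [sq]; exact hu) h1)
    · rintro (rfl | hu)
      · simp
      · rw [← sq, ← hu, pow_orderOf_eq_one]
  rw [h, Finset.card_insert_of_notMem, add_comm]
  simp

/-- Multiplication of irreducible characters by linear characters. -/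
theorem isIrr_hom_mul {G : Type*} [Group G] [Finite G] (f : G →* ℂˣ) {χ : G → ℂ}
    (hχ : IsIrrCharacter G χ) : IsIrrCharacter G (fun g => (f g : ℂ) * χ g) := by
  classical
  have := Fintype.ofFinite G
  have hf : IsCharacter G (fun g => (f g : ℂ)) :=
    isIrr_isCharacter (Characters.Linear.isIrrCharacter_hom f)
  have hmul : IsCharacter G (fun g => (f g : ℂ) * χ g) := isCharacter_mul hf (isIrr_isCharacter hχ)
  rw [isIrr_iff_classInner_self hmul, ← classInner_irr_self hχ]
  unfold classInner
  congr 1
  refine Finset.sum_congr rfl fun g _ => ?_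
  have h1 := Characters.Linear.norm_hom_apply f g
  show (f g : ℂ) * χ g * conj ((f g : ℂ) * χ g) = _
  rw [map_mul]
  have h2 : (f g : ℂ) * conj (f g : ℂ) = 1 := by
    rw [Complex.mul_conj, Complex.normSq_eq_norm_sq, h1]; simp
  linear_combination (χ g * conj (χ g)) * h2

end Cfsg.Agent.H604.FS
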