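import Cfsg.Agent.H412.Tc.Defs
import Cfsg.Agent.S0144
set_option linter.all false

-- part: H412/Tc/HeisBasic
section
/-!
# Groups of Heisenberg type: basic facts
-/

set_option autoImplicit false

namespace Cfsg.Agent.H412.Tc

variable {K V : Type*} [Field K] [AddCommGroup V] [Module K V]

theorem GV_ext {a b : GV V} (h : ∀ v : V, a • v = b • v) : a = b :=
  Units.ext (AddMonoidHom.ext h)

/-- `K`-linear automorphisms. -/
def Lin (K : Type*) {V : Type*} [Field K] [AddCommGroup V] [Module K V] (g : GV V) : Prop :=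
  ∀ (c : K) (v : V), g • c • v = c • g • v

theorem Lin.mul {g h : GV V} (hg : Lin K g) (hh : Lin K h) : Lin K (g * h) := fun c v => by
  rw [mul_smul, hh, hg, mul_smul]

theorem Lin.inv {g : GV V} (hg : Lin K g) : Lin K g⁻¹ := fun c v => by
  rw [inv_smul_eq_iff, hg, smul_inv_smul]

theorem Lin.one : Lin K (1 : GV V) := fun c v => by rw [one_smul, one_smul]

theorem lin_scal (c : Kˣ) : Lin K (scal K V c) := fun d v => by
  rw [scal_smul, scal_smul, smul_smul, smul_smul, mul_comm]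

theorem Lin.scal_comm {g : GV V} (hg : Lin K g) (c : Kˣ) :
    g * scal K V c = scal K V c * g := GV_ext fun v => by
  rw [mul_smul, mul_smul, scal_smul, scal_smul, hg]

theorem Lin.scal_commute {g : GV V} (hg : Lin K g) (c : Kˣ) :
    Commute g (scal K V c) := hg.scal_comm c

theorem scal_inj [Nontrivial V] : Function.Injective (scal K V) := by
  intro c d h
  obtain ⟨v, hv⟩ := exists_ne (0 : V)
  have h1 : scal K V c • v = scal K V d • v := by rw [h]
  rw [scal_smul, scal_smul] at h1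
  exact Units.ext (smul_left_injective K hv h1)

theorem scal_eq_one [Nontrivial V] {c : Kˣ} (h : scal K V c = 1) : c = 1 :=
  scal_inj (V := V) (by rw [h, map_one])

/-- `b` has `v` as an eigenvector. -/
def Eig (K : Type*) {V : Type*} [Field K] [AddCommGroup V] [Module K V] (b : GV V) (v : V) :
    Prop := ∃ c : Kˣ, b • v = (c : K) • v

theorem unit_of_smul {b : GV V} {v : V} (hv : v ≠ 0) {c : K} (h : b • v = c • v) :
    ∃ c' : Kˣ, b • v = (c' : K) • v := by
  have hc : c ≠ 0 := by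
    rintro rfl
    rw [zero_smul] at h
    exact hv ((smul_eq_zero_iff_eq b).1 h)
  exact ⟨Units.mk0 c hc, h⟩

theorem Lin.pow {g : GV V} (hg : Lin K g) (n : ℕ) : Lin K (g ^ n) := by
  induction n with
  | zero => simpa using Lin.one
  | succ n ih => rw [pow_succ]; exact ih.mul hg

section Comm

/-- Commutation up to the scalar `c`. -/
def CC (c : Kˣ) (a b : GV V) : Prop := a * b = scal K V c * (b * a)

variable {a b a' b' : GV V} {c d : Kˣ}

theorem CC.symm (h : CC c a b) : CC c⁻¹ b a := by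
  unfold CC at *
  rw [h, ← mul_assoc, ← map_mul, inv_mul_cancel, map_one, one_mul]

theorem CC.mul_right (hb : Lin K b) (h : CC c a b) (h' : CC d a b') :
    CC (c * d) a (b * b') := by
  unfold CC at *
  rw [← mul_assoc, h, mul_assoc, mul_assoc, h', map_mul, ← mul_assoc b, hb.scal_comm]
  simp only [mul_assoc]

theorem CC.mul_left (ha : Lin K a) (h : CC c a b) (h' : CC d a' b) :
    CC (c * d) (a * a') b := by
  unfold CC at *
  rw [mul_assoc, h', ← mul_assoc, ha.scal_comm, mul_assoc, ← mul_assoc a, h, mul_comm c d,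
    map_mul]
  simp only [mul_assoc]

theorem CC.pow_right (hb : Lin K b) (h : CC c a b) (n : ℕ) : CC (c ^ n) a (b ^ n) := by
  induction n with
  | zero => unfold CC; simp
  | succ n ih =>
    rw [pow_succ', pow_succ']
    exact CC.mul_right hb h ih

theorem CC.pow_left (ha : Lin K a) (h : CC c a b) (n : ℕ) : CC (c ^ n) (a ^ n) b := by
  induction n with
  | zero => unfold CC; simp
  | succ n ih =>
    rw [pow_succ', pow_succ']
    exact CC.mul_left ha h ih

theorem CC.smul (h : CC c a b) (v : V) : a • b • v = (c : K) • b • a • v := by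
  rw [← mul_smul, h, mul_smul, mul_smul, scal_smul]

theorem CC.unique [Nontrivial V] (h : CC c a b) (h' : CC d a b) : c = d := by
  unfold CC at *
  rw [h] at h'
  exact scal_inj (V := V) (mul_right_cancel h')

theorem CC.scal_right (ha : Lin K a) (e : Kˣ) : CC (1 : Kˣ) a (scal K V e) := by
  unfold CC
  rw [map_one, one_mul, ha.scal_comm]

theorem CC.scal_left (ha : Lin K a) (e : Kˣ) : CC (1 : Kˣ) (scal K V e) a := by
  unfold CC
  rw [map_one, one_mul, ha.scal_comm]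

theorem cc_one_iff : CC (1 : Kˣ) a b ↔ a * b = b * a := by
  unfold CC; rw [map_one, one_mul]

/-- Powers of a product of elements commuting up to a scalar. -/
theorem CC.mul_pow (ha : Lin K a) (hb : Lin K b) (h : CC c b a) (n : ℕ) :
    (a * b) ^ n = scal K V (c ^ (n * (n - 1) / 2)) * (a ^ n * b ^ n) := by
  induction n with
  | zero => simp
  | succ n ih =>
    have h1 : CC (c ^ n) (b ^ n) a := h.pow_left hb n
    unfold CC at h1
    have h2 : (n + 1) * (n + 1 - 1) / 2 = n * (n - 1) / 2 + n := by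
      have : (n + 1) * (n + 1 - 1) = n * (n - 1) + 2 * n := by
        cases n with
        | zero => rfl
        | succ m => simp; ring
      rw [this, Nat.add_mul_div_left _ _ (by norm_num)]
    have ha' : Lin K (a ^ n) := ha.pow n
    rw [pow_succ, ih, h2, pow_add, map_mul]
    calc scal K V (c ^ (n * (n - 1) / 2)) * (a ^ n * b ^ n) * (a * b)
        = scal K V (c ^ (n * (n - 1) / 2)) * (a ^ n * (b ^ n * a) * b) := by
          simp only [mul_assoc]
      _ = scal K V (c ^ (n * (n - 1) / 2)) * ((a ^ n * scal K V (c ^ n)) * (a * b ^ n) * b) := by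
          rw [h1]; simp only [mul_assoc]
      _ = _ := by
          rw [ha'.scal_comm, pow_succ a, pow_succ b]
          simp only [mul_assoc]

end Comm

namespace Heis

variable {r : ℕ} {B : Subgroup (GV V)} (hB : Heis K V r B)
include hB

theorem linb {b : GV V} (hb : b ∈ B) : Lin K b := hB.lin b hb

theorem cc {a b : GV V} (ha : a ∈ B) (hb : b ∈ B) : ∃ c : Kˣ, CC c a b := hB.comm a ha b hb

theorem cc_pow [Nontrivial V] {a b : GV V} (ha : a ∈ B) (hb : b ∈ B) {c : Kˣ} (h : CC c a b) :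
    c ^ r = 1 := by
  have h1 := h.pow_left (hB.linb ha) r
  obtain ⟨e, he⟩ := hB.pow a ha
  rw [he] at h1
  exact h1.unique (CC.scal_left (hB.linb hb) e)

/-- Elements with a common eigenvector commute. -/
theorem commute_of_eig {a b : GV V} (ha : a ∈ B) (hb : b ∈ B) {v : V} (hv : v ≠ 0)
    (h1 : Eig K a v) (h2 : Eig K b v) : a * b = b * a := by
  obtain ⟨c, hc⟩ := hB.cc ha hb
  obtain ⟨x, hx⟩ := h1
  obtain ⟨y, hy⟩ := h2
  have h3 := hc.smul v
  rw [hx, hy, hB.linb ha, hx, hB.linb hb, hy, smul_smul, smul_smul, smul_smul] at h3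
  have h4 := smul_left_injective K hv h3
  have h5 : c = 1 := by
    apply Units.ext
    have h6 : (x : K) * y ≠ 0 := mul_ne_zero x.ne_zero y.ne_zero
    have h7 : (c : K) * (x * y) = 1 * (x * y) := by
      rw [one_mul]
      linear_combination -h4
    exact mul_right_cancel₀ h6 h7
  rw [h5] at hc
  exact cc_one_iff.1 hc

theorem exists_cc_ne {a : GV V} (ha : a ∈ B) (hns : ∀ c : Kˣ, a ≠ scal K V c) :
    ∃ b ∈ B, ∃ c : Kˣ, c ≠ 1 ∧ CC c a b := by
  by_contra hcon
  push Not at hcon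
  obtain ⟨c, hc⟩ := hB.cent a ha (fun b hb => by
    obtain ⟨c, hc⟩ := hB.cc ha hb
    have : c = 1 := by
      by_contra hne
      exact hcon b hb c hne hc
    rw [this] at hc
    exact cc_one_iff.1 hc)
  exact hns c hc

end Heis

end Cfsg.Agent.H412.Tc
end

-- part: H412/Tc/HeisEig
section
/-!
# Groups of Heisenberg type: eigenspace decompositions
-/

set_option autoImplicit false

namespace Cfsg.Agent.H412.Tc

variable {K V : Type*} [Field K] [AddCommGroup V] [Module K V]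

theorem prime_ne_zero {r : ℕ} (hr : r.Prime) {c : Kˣ} (hc : c ≠ 1) (h : c ^ r = 1) :
    (r : K) ≠ 0 := by
  intro h0
  have h1 : ringChar K ∣ r := ringChar.dvd h0
  rcases (Nat.dvd_prime hr).1 h1 with h2 | h2
  · exact CharP.ringChar_ne_one h2
  · have : CharP K r := ringChar.of_eq h2
    have : Fact r.Prime := ⟨hr⟩
    have h3 : ((c : K) - 1) ^ r = 0 := by
      rw [sub_pow_char, one_pow, ← Units.val_pow_eq_pow_val, h, Units.val_one, sub_self]
    have h4 : (c : K) = 1 := sub_eq_zero.1 (pow_eq_zero_iff hr.ne_zero |>.1 h3)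
    exact hc (Units.ext h4)

theorem primitive {r : ℕ} (hr : r.Prime) {c : Kˣ} (hc : c ≠ 1) (h : c ^ r = 1) :
    IsPrimitiveRoot (c : K) r := by
  have h1 : orderOf c = r := by
    rcases (Nat.dvd_prime hr).1 (orderOf_dvd_of_pow_eq_one h) with h2 | h2
    · exact absurd (orderOf_eq_one_iff.1 h2) hc
    · exact h2
  rw [← h1, IsPrimitiveRoot.coe_units_iff]
  exact IsPrimitiveRoot.orderOf c

theorem exists_pow_eq {r : ℕ} (hr : r.Prime) {c : Kˣ} (hc : c ≠ 1) (h : c ^ r = 1) {ζ : Kˣ}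
    (hζ : ζ ^ r = 1) : ∃ i < r, c ^ i = ζ := by
  have : NeZero r := ⟨hr.ne_zero⟩
  have h1 : (ζ : K) ^ r = 1 := by rw [← Units.val_pow_eq_pow_val, hζ, Units.val_one]
  obtain ⟨i, hi, h2⟩ := (primitive hr hc h).eq_pow_of_pow_eq_one h1
  exact ⟨i, hi, Units.ext (by rw [Units.val_pow_eq_pow_val, h2])⟩

/-- `r` times the projection onto the eigenspace of `y` for the eigenvalue `ζ`. -/
noncomputable def Pr (r : ℕ) (y : GV V) (ζ : Kˣ) (v : V) : V :=
  ∑ j ∈ Finset.range r, ((ζ⁻¹ ^ j : Kˣ) : K) • (y ^ j) • v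

theorem Pr_mem {r : ℕ} {y : GV V} (hy : Lin K y) (hyr : y ^ r = 1) {ζ : Kˣ} (hζ : ζ ^ r = 1)
    (v : V) : y • Pr r y ζ v = (ζ : K) • Pr r y ζ v := by
  have h1 : y • Pr r y ζ v =
      (ζ : K) • ∑ j ∈ Finset.range r, ((ζ⁻¹ ^ (j + 1) : Kˣ) : K) • (y ^ (j + 1)) • v := by
    unfold Pr
    rw [Finset.smul_sum, Finset.smul_sum]
    refine Finset.sum_congr rfl fun j _ => ?_
    rw [hy, ← mul_smul, ← pow_succ', smul_smul, ← Units.val_mul]
    congr 3
    rw [pow_succ]
    group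
  rw [h1]
  congr 1
  unfold Pr
  have h2 := Finset.sum_range_succ (fun j => ((ζ⁻¹ ^ j : Kˣ) : K) • (y ^ j) • v) r
  have h3 := Finset.sum_range_succ' (fun j => ((ζ⁻¹ ^ j : Kˣ) : K) • (y ^ j) • v) r
  rw [h2] at h3
  have h4 : ((ζ⁻¹ ^ r : Kˣ) : K) • (y ^ r) • v = ((ζ⁻¹ ^ 0 : Kˣ) : K) • (y ^ 0) • v := by
    rw [hyr, inv_pow, hζ]
    simp
  rw [h4] at h3
  exact (add_right_cancel h3).symm

theorem pow_smul_of_eig {y : GV V} (hy : Lin K y) {c : K} {v : V} (h : y • v = c • v) (n : ℕ) :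
    (y ^ n) • v = c ^ n • v := by
  induction n with
  | zero => simp
  | succ n ih => rw [pow_succ', mul_smul, ih, hy, h, smul_smul, pow_succ]

theorem Pr_eig_self {r : ℕ} {y : GV V} (hy : Lin K y) {ζ : Kˣ} {v : V}
    (h : y • v = (ζ : K) • v) : Pr r y ζ v = (r : K) • v := by
  unfold Pr
  have : ∀ j ∈ Finset.range r, ((ζ⁻¹ ^ j : Kˣ) : K) • (y ^ j) • v = v := by
    intro j _
    rw [pow_smul_of_eig hy h, smul_smul, ← Units.val_pow_eq_pow_val, ← Units.val_mul]
    simp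
  rw [Finset.sum_congr rfl this]
  simp [Nat.cast_smul_eq_nsmul]

theorem Pr_eig_ne {r : ℕ} {y : GV V} (hy : Lin K y) {ζ ζ' : Kˣ} (hζ : ζ ^ r = 1)
    (hζ' : ζ' ^ r = 1) (hne : ζ ≠ ζ') {v : V} (h : y • v = (ζ' : K) • v) :
    Pr r y ζ v = 0 := by
  unfold Pr
  have h1 : ∀ j ∈ Finset.range r,
      ((ζ⁻¹ ^ j : Kˣ) : K) • (y ^ j) • v = ((ζ⁻¹ * ζ' : Kˣ) : K) ^ j • v := by
    intro j _
    rw [pow_smul_of_eig hy h, smul_smul, Units.val_mul, mul_pow, Units.val_pow_eq_pow_val]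
  rw [Finset.sum_congr rfl h1, ← Finset.sum_smul]
  have h2 : ((ζ⁻¹ * ζ' : Kˣ) : K) ≠ 1 := by
    intro h3
    apply hne
    have : ζ⁻¹ * ζ' = 1 := Units.ext h3
    rw [inv_mul_eq_one] at this
    exact this
  have h3 : (∑ j ∈ Finset.range r, ((ζ⁻¹ * ζ' : Kˣ) : K) ^ j) = 0 := by
    have h4 := geom_sum_mul ((ζ⁻¹ * ζ' : Kˣ) : K) r
    have h5 : ((ζ⁻¹ * ζ' : Kˣ) : K) ^ r = 1 := by
      rw [← Units.val_pow_eq_pow_val, mul_pow, inv_pow, hζ, hζ']
      simp
    rw [h5, sub_self] at h4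
    exact (mul_eq_zero.1 h4).resolve_right (sub_ne_zero.2 h2)
  rw [h3, zero_smul]

theorem sum_Pr {r : ℕ} {ω : Kˣ} (hω : IsPrimitiveRoot (ω : K) r) (hr : 1 < r) (y : GV V)
    (v : V) : ∑ i ∈ Finset.range r, Pr r y (ω ^ i) v = (r : K) • v := by
  unfold Pr
  rw [Finset.sum_comm]
  have h0 : ∀ j ∈ Finset.range r,
      ∑ i ∈ Finset.range r, (((ω ^ i)⁻¹ ^ j : Kˣ) : K) • (y ^ j) • v =
        if j = 0 then (r : K) • v else 0 := by
    intro j hj
    rw [← Finset.sum_smul]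
    have h1 : ∀ i ∈ Finset.range r, (((ω ^ i)⁻¹ ^ j : Kˣ) : K) = ((ω : K)⁻¹ ^ j) ^ i := by
      intro i _
      rw [Units.val_pow_eq_pow_val, Units.val_inv_eq_inv_val, Units.val_pow_eq_pow_val,
        ← inv_pow, ← pow_mul, ← pow_mul, mul_comm]
    rw [Finset.sum_congr rfl h1]
    split_ifs with hj0
    · subst hj0
      simp
    · have h2 : (ω : K)⁻¹ ^ j ≠ 1 := by
        rw [inv_pow, ne_eq, inv_eq_one]
        intro h3
        have h4 := (hω.pow_eq_one_iff_dvd j).1 h3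
        exact absurd (Nat.le_of_dvd (Nat.pos_of_ne_zero hj0) h4)
          (not_le.2 (Finset.mem_range.1 hj))
      have h3 : ∑ i ∈ Finset.range r, ((ω : K)⁻¹ ^ j) ^ i = 0 := by
        have h4 := geom_sum_mul ((ω : K)⁻¹ ^ j) r
        have h5 : ((ω : K)⁻¹ ^ j) ^ r = 1 := by
          rw [← pow_mul, mul_comm, pow_mul, inv_pow, hω.pow_eq_one]
          simp
        rw [h5, sub_self] at h4
        exact (mul_eq_zero.1 h4).resolve_right (sub_ne_zero.2 h2)
      rw [h3, zero_smul]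
  rw [Finset.sum_congr rfl h0]
  simp
  intro h; omega

/-- An operator with `y ^ r = 1` has an eigenvector among the projections of `v ≠ 0`. -/
theorem exists_Pr_ne {r : ℕ} {ω : Kˣ} (hω : IsPrimitiveRoot (ω : K) r) (hr : 1 < r)
    (hr0 : (r : K) ≠ 0) (y : GV V) {v : V} (hv : v ≠ 0) : ∃ i < r, Pr r y (ω ^ i) v ≠ 0 := by
  by_contra hcon
  push Not at hcon
  have h1 := sum_Pr hω hr y v
  rw [Finset.sum_eq_zero (fun i hi => hcon i (Finset.mem_range.1 hi))] at h1
  rcases smul_eq_zero.1 h1.symm with h2 | h2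
  · exact hr0 h2
  · exact hv h2

theorem Pr_comm {r : ℕ} {y t : GV V} (ht : Lin K t) (h : t * y = y * t) (ζ : Kˣ) (v : V) :
    t • Pr r y ζ v = Pr r y ζ (t • v) := by
  unfold Pr
  rw [Finset.smul_sum]
  refine Finset.sum_congr rfl fun j _ => ?_
  rw [ht, ← mul_smul, ← mul_smul]
  congr 2
  have h1 : Commute t y := h
  exact (h1.pow_right j).eq

namespace Heis

variable {r : ℕ} {B : Subgroup (GV V)} (hB : Heis K V r B)
include hB

/-- If `B` is not scalar, then every nonscalar element has prescribed commutators. -/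
theorem exists_cc_eq [Nontrivial V] {a : GV V} (ha : a ∈ B) (hns : ∀ c : Kˣ, a ≠ scal K V c)
    {ζ : Kˣ} (hζ : ζ ^ r = 1) : ∃ b ∈ B, CC ζ a b := by
  obtain ⟨b, hb, c, hc1, hc⟩ := hB.exists_cc_ne ha hns
  obtain ⟨i, -, hi⟩ := exists_pow_eq hB.prime hc1 (hB.cc_pow ha hb hc) hζ
  exact ⟨b ^ i, B.pow_mem hb i, hi ▸ hc.pow_right (hB.linb hb) i⟩

theorem exists_root [Nontrivial V] {a : GV V} (ha : a ∈ B) (hns : ∀ c : Kˣ, a ≠ scal K V c) :
    ∃ ω : Kˣ, ω ≠ 1 ∧ ω ^ r = 1 := by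
  obtain ⟨b, hb, c, hc1, hc⟩ := hB.exists_cc_ne ha hns
  exact ⟨c, hc1, hB.cc_pow ha hb hc⟩

end Heis

end Cfsg.Agent.H412.Tc
end

-- part: H412/Tc/HeisDefs
section
/-!
# Groups of Heisenberg type: interface for the main case

`Good K r B x v`: `x` is a nonscalar element of order `r` fixing `v`, and the only elements of
`B` with eigenvector `v` are those of `⟨x⟩` times scalars. `PairAgree`: `cl2 A` and `A` agree
on pairs of elements of `B / Kˣ`.
-/

set_option autoImplicit false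

namespace Cfsg.Agent.H412.Tc

universe u

section

variable (K : Type*) {V : Type*} [Field K] [AddCommGroup V] [Module K V]

def Good (r : ℕ) (B : Subgroup (GV V)) (x : GV V) (v : V) : Prop :=
  x ∈ B ∧ x ^ r = 1 ∧ (∀ c : Kˣ, x ≠ scal K V c) ∧ v ≠ 0 ∧ x • v = v ∧
    ∀ b ∈ B, Eig K b v → ∃ (i : ℕ) (c : Kˣ), b = scal K V c * x ^ i

def PairAgree (A B : Subgroup (GV V)) : Prop :=
  ∀ h ∈ cl2 A, ∀ x ∈ B, ∀ y ∈ B, ∃ g ∈ A,
    (∃ c : Kˣ, g * x * g⁻¹ = scal K V c * (h * x * h⁻¹)) ∧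
    (∃ c : Kˣ, g * y * g⁻¹ = scal K V c * (h * y * h⁻¹))

/-- The exceptional configuration for `r = 2`. -/
def EData (B : Subgroup (GV V)) : Prop :=
  ∃ x ∈ B, ∃ x' ∈ B, ∃ y ∈ B, ∃ y' ∈ B, ∃ p : V, p ≠ 0 ∧ x • p = p ∧ x' • p = p ∧
    x ^ 2 = 1 ∧ x' ^ 2 = 1 ∧ x * x' = x' * x ∧ CC (-1 : Kˣ) x y ∧ x' * y = y * x' ∧
    CC (-1 : Kˣ) x' y' ∧ x * y' = y' * x ∧
    ∀ f : V, f ≠ 0 → x • f = f → x' • f = f →
      (∀ b ∈ B, Eig K b f → ∃ (i j : ℕ) (c : Kˣ), b = scal K V c * (x ^ i * x' ^ j)) ∧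
        ∃ b ∈ B, f = b • p

end

/-- A homomorphism with solvable image whose kernel centralizes `B` modulo scalars. -/
def Concl (K : Type u) {V : Type u} [Field K] [AddCommGroup V] [Module K V]
    (A B : Subgroup (GV V)) : Prop :=
  ∃ (Q : Type u) (_ : Group Q) (φ : ↥(cl2 A) →* Q), Group.IsSolvable φ.range ∧
    ∀ h, φ h = 1 → ∀ b ∈ B, ∃ c : Kˣ, (h : GV V) * b * (h : GV V)⁻¹ = scal K V c * b

end Cfsg.Agent.H412.Tc
end

-- part: H604/TcEncOdd
section
/-!
# S3621: agreement on pairs of elements of `B / Kˣ`, `r` odd (helper604)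
-/

set_option autoImplicit false
set_option linter.unusedSectionVars false

namespace Cfsg.Agent.H604.TcEncOdd

open Cfsg.Agent.H412.Tc

universe u

section Gen

variable {K V : Type*} [Field K] [AddCommGroup V] [Module K V]

theorem semi_scal {g : GV V} (h : Semi K g) (c : Kˣ) : ∃ d : Kˣ, g * scal K V c = scal K V d * g := by
  obtain ⟨σ, hσ⟩ := h
  refine ⟨Units.map (σ : K →* K) c, GV_ext fun v => ?_⟩
  rw [mul_smul, mul_smul, scal_smul, scal_smul, hσ]
  rfl

theorem semi_scal_conj {g : GV V} (h : Semi K g) (c : Kˣ) : ∃ d : Kˣ, g * scal K V c * g⁻¹ = scal K V d := by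
  obtain ⟨d, hd⟩ := semi_scal h c
  exact ⟨d, by rw [hd, mul_inv_cancel_right]⟩

theorem eig_of_lin {b : GV V} {v : V} {c : Kˣ} {x : GV V} (hx : x • v = v) (i : ℕ) (h : b = scal K V c * x ^ i) :
    b • v = (c : K) • v := by
  have h1 : x ^ i • v = v := by
    clear h
    induction i with
    | zero => simp
    | succ n ih => rw [pow_succ, mul_smul, hx, ih]
  rw [h, mul_smul, h1, scal_smul]

theorem pow_fix {x : GV V} {v : V} (hx : x • v = v) (i : ℕ) : x ^ i • v = v := by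
  induction i with
  | zero => simp
  | succ n ih => rw [pow_succ, mul_smul, hx, ih]

theorem smul_cancel {v : V} (hv : v ≠ 0) {c d : Kˣ} (h : (c : K) • v = (d : K) • v) : c = d :=
  Units.ext (smul_left_injective K hv h)

theorem Pr_add {r : ℕ} {y : GV V} (ζ : Kˣ) (u v : V) : Pr r y ζ (u + v) = Pr r y ζ u + Pr r y ζ v := by
  unfold Pr
  rw [← Finset.sum_add_distrib]
  refine Finset.sum_congr rfl fun j _ => ?_
  rw [smul_add, smul_add]

theorem pow_two_ne {r : ℕ} (hr : r.Prime) (hr2 : r ≠ 2) {ω : Kˣ} (hω : ω ≠ 1) (hωr : ω ^ r = 1) : ω ^ 2 ≠ 1 := by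
  intro h
  have h1 : orderOf ω ∣ r := orderOf_dvd_of_pow_eq_one hωr
  have h2 : orderOf ω ∣ 2 := orderOf_dvd_of_pow_eq_one h
  have h3 : orderOf ω ≠ 1 := fun h => hω (orderOf_eq_one_iff.1 h)
  have h4 : orderOf ω = r := ((Nat.dvd_prime hr).1 h1).resolve_left h3
  have h5 : orderOf ω = 2 := ((Nat.dvd_prime Nat.prime_two).1 h2).resolve_left h3
  omega

/-- comparison of components -/
theorem components {r : ℕ} (hr : r.Prime) (hr2 : r ≠ 2) {x : GV V} (hx : Lin K x) {ω ζ : Kˣ} (hω : ω ≠ 1)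
    (hωr : ω ^ r = 1) (hζ : ζ ≠ 1) (hζr : ζ ^ r = 1) {u1 u2 u3 w1 w2 w3 : V}
    (h1 : x • u1 = u1) (h2 : x • u2 = (ω : K) • u2) (h3 : x • u3 = ((ω ^ 2 : Kˣ) : K) • u3)
    (k1 : x • w1 = w1) (k2 : x • w2 = (ζ : K) • w2) (k3 : x • w3 = ((ζ ^ 2 : Kˣ) : K) • w3)
    (hu2 : u2 ≠ 0) (hu3 : u3 ≠ 0) (h : w1 + w2 + w3 = u1 + u2 + u3) :
    w1 = u1 ∧ ((w2 = u2 ∧ w3 = u3) ∨ (w2 = u3 ∧ w3 = u2)) := by
  have hr0 : (r : K) ≠ 0 := prime_ne_zero hr hω hωr
  have hω2 : ω ^ 2 ≠ 1 := pow_two_ne hr hr2 hω hωr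
  have hζ2 : ζ ^ 2 ≠ 1 := pow_two_ne hr hr2 hζ hζr
  have hω3 : ω ^ 2 ≠ ω := fun h => hω (by
    have : ω * ω = ω * 1 := by rw [← pow_two, h, mul_one]
    exact mul_left_cancel this)
  have hζ3 : ζ ^ 2 ≠ ζ := fun h => hζ (by
    have : ζ * ζ = ζ * 1 := by rw [← pow_two, h, mul_one]
    exact mul_left_cancel this)
  have hω2r : (ω ^ 2) ^ r = 1 := by rw [← pow_mul, mul_comm, pow_mul, hωr, one_pow]
  have hζ2r : (ζ ^ 2) ^ r = 1 := by rw [← pow_mul, mul_comm, pow_mul, hζr, one_pow]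
  have h1' : x • u1 = ((1 : Kˣ) : K) • u1 := by rw [Units.val_one, one_smul, h1]
  have k1' : x • w1 = ((1 : Kˣ) : K) • w1 := by rw [Units.val_one, one_smul, k1]
  have hcan : ∀ a b : V, (r : K) • a = (r : K) • b → a = b := fun a b hab => smul_right_injective V hr0 hab
  have key : ∀ η : Kˣ, Pr r x η w1 + Pr r x η w2 + Pr r x η w3 = Pr r x η u1 + Pr r x η u2 + Pr r x η u3 := by
    intro η
    rw [← Pr_add, ← Pr_add, ← Pr_add, ← Pr_add, h]
  refine ⟨?_, ?_⟩
  · have e := key 1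
    rw [Pr_eig_self hx k1', Pr_eig_ne hx (one_pow _) hζr hζ.symm k2, Pr_eig_ne hx (one_pow _) hζ2r hζ2.symm k3,
      Pr_eig_self hx h1', Pr_eig_ne hx (one_pow _) hωr hω.symm h2, Pr_eig_ne hx (one_pow _) hω2r hω2.symm h3] at e
    simp only [add_zero] at e
    exact hcan _ _ e
  · have e2 := key ω
    rw [Pr_eig_ne hx hωr (one_pow _) hω k1', Pr_eig_ne hx hωr (one_pow _) hω h1', Pr_eig_self hx h2,
      Pr_eig_ne hx hωr hω2r hω3.symm h3, zero_add, zero_add, add_zero] at e2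
    have e3 := key (ω ^ 2)
    rw [Pr_eig_ne hx hω2r (one_pow _) hω2 k1', Pr_eig_ne hx hω2r (one_pow _) hω2 h1', Pr_eig_self hx h3,
      Pr_eig_ne hx hω2r hωr hω3 h2, zero_add, zero_add, zero_add] at e3
    by_cases hc : ζ = ω
    · subst hc
      left
      rw [Pr_eig_self hx k2, Pr_eig_ne hx hωr hω2r hω3.symm k3, add_zero] at e2
      rw [Pr_eig_self hx k3, Pr_eig_ne hx hω2r hωr hω3 k2, zero_add] at e3
      exact ⟨hcan _ _ e2, hcan _ _ e3⟩
    · right
      have hc' : ω ≠ ζ := fun h => hc h.symm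
      rw [Pr_eig_ne hx hωr hζr hc' k2, zero_add] at e2
      have hd : ω = ζ ^ 2 := by
        by_contra hd
        rw [Pr_eig_ne hx hωr hζ2r hd k3] at e2
        rcases smul_eq_zero.1 e2.symm with h4 | h4
        · exact hr0 h4
        · exact hu2 h4
      rw [hd, Pr_eig_self hx k3] at e2
      have hd2 : ω ^ 2 ≠ ζ ^ 2 := by rw [← hd]; exact hω3
      rw [Pr_eig_ne hx hω2r hζ2r hd2 k3, add_zero] at e3
      have hf : ω ^ 2 = ζ := by
        by_contra hf
        rw [Pr_eig_ne hx hω2r hζr hf k2] at e3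
        rcases smul_eq_zero.1 e3.symm with h4 | h4
        · exact hr0 h4
        · exact hu3 h4
      rw [hf, Pr_eig_self hx k2] at e3
      exact ⟨hcan _ _ e3, hcan _ _ e2⟩

end Gen

section

variable {K V : Type u} [Field K] [Finite K] [AddCommGroup V] [Finite V] [Module K V]
  {A B : Subgroup (GV V)} {r : ℕ}

theorem nontrivial_V (S : SetB K V A B r) : Nontrivial V := by
  have h := S.card
  exact Finite.one_lt_card_iff_nontrivial.1 (by omega)

/-- transport of good elements by `A` -/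
theorem good_smul (S : SetB K V A B r) {x : GV V} {v : V} (hg : Good K r B x v) {g : GV V} (hgA : g ∈ A) :
    Good K r B (g * x * g⁻¹) (g • v) := by
  obtain ⟨hxB, hxr, hns, hv, hxv, hE⟩ := hg
  have hs : Semi K g := S.semi g hgA
  have hs' : Semi K g⁻¹ := S.semi _ (A.inv_mem hgA)
  refine ⟨S.norm g hgA x hxB, ?_, ?_, ?_, ?_, ?_⟩
  · rw [conj_pow, hxr, mul_one, mul_inv_cancel]
  · intro c hc
    obtain ⟨d, hd⟩ := semi_scal_conj hs' c
    apply hns d
    rw [← hd, ← hc]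
    group
  · rw [ne_eq, smul_eq_zero_iff_eq]
    exact hv
  · rw [mul_smul, inv_smul_smul, mul_smul, hxv]
  · intro b hb hbe
    obtain ⟨c, hc⟩ := hbe
    have h1 : g⁻¹ * b * g⁻¹⁻¹ ∈ B := S.norm g⁻¹ (A.inv_mem hgA) b hb
    have h2 : Eig K (g⁻¹ * b * g⁻¹⁻¹) v := by
      obtain ⟨σ, hσ⟩ := hs'
      refine ⟨Units.map (σ : K →* K) c, ?_⟩
      rw [inv_inv, mul_smul, mul_smul, hc, hσ, inv_smul_smul]
      rfl
    obtain ⟨i, d, hd⟩ := hE _ h1 h2
    obtain ⟨d', hd'⟩ := semi_scal_conj hs d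
    refine ⟨i, d', ?_⟩
    have h3 : b = g * (g⁻¹ * b * g⁻¹⁻¹) * g⁻¹ := by group
    rw [h3, hd, conj_pow, ← hd']
    group

/-- a good element not commuting with a given nonscalar element -/
theorem exists_good (S : SetB K V A B r) (hg : ∃ x v, Good K r B x v) {x : GV V} (hx : x ∈ B)
    (hns : ∀ c : Kˣ, x ≠ scal K V c) : ∃ y v, Good K r B y v ∧ x * y ≠ y * x := by
  by_contra hcon
  push Not at hcon
  let T : Set (GV V) := {y | (∃ c : Kˣ, y = scal K V c) ∨ ∃ v, Good K r B y v}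
  let N : Subgroup (GV V) := Subgroup.closure T
  have hNB : N ≤ B := by
    rw [Subgroup.closure_le]
    rintro y (⟨c, rfl⟩ | ⟨v, hv⟩)
    · exact S.heis.scal_mem c
    · exact hv.1
  have hNn : ∀ g ∈ A, ∀ b ∈ N, g * b * g⁻¹ ∈ N := by
    intro g hg b hb
    induction hb using Subgroup.closure_induction with
    | mem y hy =>
      apply Subgroup.subset_closure
      rcases hy with ⟨c, rfl⟩ | ⟨v, hv⟩
      · left
        exact semi_scal_conj (S.semi g hg) c
      · right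
        exact ⟨g • v, good_smul S hv hg⟩
    | one => simp
    | mul a b _ _ ha hb =>
      have : g * (a * b) * g⁻¹ = (g * a * g⁻¹) * (g * b * g⁻¹) := by group
      rw [this]
      exact N.mul_mem ha hb
    | inv a _ ha =>
      have : g * a⁻¹ * g⁻¹ = (g * a * g⁻¹)⁻¹ := by group
      rw [this]
      exact N.inv_mem ha
  rcases S.min N (fun c => Subgroup.subset_closure (Or.inl ⟨c, rfl⟩)) hNB hNn with h | h
  · obtain ⟨y, v, hy⟩ := hg
    obtain ⟨c, hc⟩ := h y (Subgroup.subset_closure (Or.inr ⟨v, hy⟩))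
    exact hy.2.2.1 c hc
  · obtain ⟨c, hc⟩ := S.heis.cent x hx (fun b hb => by
      have hb' : b ∈ N := h hb
      clear hb
      induction hb' using Subgroup.closure_induction with
      | mem y hy =>
        rcases hy with ⟨c, rfl⟩ | ⟨v, hv⟩
        · exact (S.heis.linb hx).scal_comm c
        · exact hcon y v hv
      | one => simp
      | mul a b _ _ ha hb => rw [← mul_assoc, ha, mul_assoc, hb, mul_assoc]
      | inv a _ ha =>
        have h1 : Commute x a := ha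
        exact h1.inv_right.eq)
    exact hns c hc

/-- conjugation by a semilinear map of an eigenvector -/
theorem conj_eig {x k : GV V} (hx : Lin K x) {i i' : ℕ} (hk : k * x * k⁻¹ = x ^ i) (hi : x ^ (i * i') = x)
    {σ : K ≃+* K} (hσ : ∀ (c : K) (v : V), k • c • v = σ c • k • v) {ζ : Kˣ} {u : V} (hu : x • u = (ζ : K) • u) :
    x • k • u = (((Units.map (σ : K →* K) ζ) ^ i' : Kˣ) : K) • k • u := by
  have h1 : (x ^ i) • k • u = σ (ζ : K) • k • u := by
    rw [← hk, mul_smul, mul_smul, inv_smul_smul, hu, hσ]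
  have h2 := pow_smul_of_eig (hx.pow i) h1 i'
  rw [← pow_mul, hi] at h2
  rw [h2]
  congr 1

/-- the key computation -/
theorem key (S : SetB K V A B r) (hr : r ≠ 2) (hs : ∀ h ∈ cl2 A, Semi K h)
    (hn : ∀ h ∈ cl2 A, ∀ b ∈ B, h * b * h⁻¹ ∈ B) {x : GV V} {v : V} (hg : Good K r B x v) {a b : GV V}
    (ha : a ∈ B) (hb : b ∈ B) (har : a ^ r = 1) (hnv : Pr r a (1 : Kˣ) v ≠ 0) (hax : a * x = x * a) {ω : Kˣ}
    (hω : ω ≠ 1) (hxb : CC ω x b) (h3 : r = 3 → ∀ (i : ℕ) (c : Kˣ), a ≠ scal K V c * x ^ i) :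
    ∃ w : V, ∀ k ∈ cl2 A, k • v = v → k • w = w → Lin K k ∧ k * x = x * k ∧ k * a = a * k ∧ k * b = b * k := by
  have hNV : Nontrivial V := nontrivial_V S
  have hrp : r.Prime := S.heis.prime
  obtain ⟨hxB, hxr, hns, hv, hxv, hE⟩ := hg
  have hxL : Lin K x := S.heis.linb hxB
  have haL : Lin K a := S.heis.linb ha
  have hbL : Lin K b := S.heis.linb hb
  have hωr : ω ^ r = 1 := S.heis.cc_pow hxB hb hxb
  have hr0 : (r : K) ≠ 0 := prime_ne_zero hrp hω hωr
  have hωo : orderOf ω = r := by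
    rcases (Nat.dvd_prime hrp).1 (orderOf_dvd_of_pow_eq_one hωr) with h2 | h2
    · exact absurd (orderOf_eq_one_iff.1 h2) hω
    · exact h2
  -- `ω ^ l = 1` implies `x ^ l = 1`
  have hωx : ∀ l : ℕ, ω ^ l = 1 → x ^ l = 1 := by
    intro l hl
    have h1 : r ∣ l := by rw [← hωo]; exact orderOf_dvd_of_pow_eq_one hl
    obtain ⟨m, rfl⟩ := h1
    rw [pow_mul, hxr, one_pow]
  -- eigenvectors of elements fixing `v` up to a scalar
  have hE' : ∀ y ∈ B, ∀ c : Kˣ, y • v = (c : K) • v → ∃ i : ℕ, y = scal K V c * x ^ i := by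
    intro y hy c hc
    obtain ⟨i, d, hd⟩ := hE y hy ⟨c, hc⟩
    have h1 := eig_of_lin hxv i hd
    rw [hc] at h1
    have h2 : c = d := smul_cancel hv h1
    exact ⟨i, h2 ▸ hd⟩
  have hav1 : x • a • v = a • v := by rw [← mul_smul, ← hax, mul_smul, hxv]
  have hxcomm : Commute x a := hax.symm
  set nv : V := Pr r a (1 : Kˣ) v with hnvdef
  have hxnv : ∀ ζ : Kˣ, x • Pr r a ζ v = Pr r a ζ v := by
    intro ζ
    rw [Pr_comm hxL hax.symm, hxv]
  have hanv : a • nv = nv := by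
    have := Pr_mem haL har (one_pow r : (1 : Kˣ) ^ r = 1) v
    rw [Units.val_one, one_smul] at this
    exact this
  obtain ⟨θ, hθ⟩ := IsCyclic.exists_generator (α := Kˣ)
  have hxbv : ∀ u : V, x • u = u → x • b • u = (ω : K) • b • u := by
    intro u hu
    rw [hxb.smul, hu]
  have hxb2 : CC (ω ^ 2) x (b ^ 2) := hxb.pow_right hbL 2
  have hxb2v : ∀ u : V, x • u = u → x • (b ^ 2) • u = ((ω ^ 2 : Kˣ) : K) • (b ^ 2) • u := by
    intro u hu
    rw [hxb2.smul, hu]
  refine ⟨(θ : K) • a • v + b • v + (b ^ 2) • nv, fun k hk hkv hkw => ?_⟩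
  obtain ⟨σ, hσ⟩ := hs k hk
  have hkv' : k⁻¹ • v = v := by rw [inv_smul_eq_iff, hkv]
  -- `k x k⁻¹ = x ^ i`
  obtain ⟨i, hi⟩ : ∃ i : ℕ, k * x * k⁻¹ = x ^ i := by
    obtain ⟨i, hi⟩ := hE' _ (hn k hk x hxB) 1 (by
      rw [mul_smul, mul_smul, hkv', hxv, hkv, Units.val_one, one_smul])
    exact ⟨i, by rw [hi, map_one, one_mul]⟩
  have hri : ¬ r ∣ i := by
    rintro ⟨m, rfl⟩
    rw [pow_mul, hxr, one_pow] at hi
    have h1 : x = 1 := by
      have : x = k⁻¹ * (k * x * k⁻¹) * k := by group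
      rw [this, hi]; group
    exact hns 1 (by rw [map_one]; exact h1)
  obtain ⟨i', hi'⟩ : ∃ i' : ℕ, i * i' ≡ 1 [MOD r] := by
    obtain ⟨m, -, hm⟩ := Nat.exists_mul_mod_eq_one_of_coprime
      ((Nat.Prime.coprime_iff_not_dvd hrp).2 hri).symm hrp.one_lt
    refine ⟨m, ?_⟩
    rw [Nat.ModEq, hm, Nat.mod_eq_of_lt hrp.one_lt]
  have hxi : x ^ (i * i') = x := by
    have h1 := pow_eq_pow_of_modEq hi' hxr
    rwa [pow_one] at h1
  -- the components
  let τ : Kˣ := (Units.map (σ : K →* K) ω) ^ i'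
  have hτr : τ ^ r = 1 := by
    change ((Units.map (σ : K →* K) ω) ^ i') ^ r = 1
    rw [← pow_mul, mul_comm, pow_mul, ← map_pow, hωr, map_one, one_pow]
  have hτ1 : τ ≠ 1 := by
    intro h
    have h1 : (Units.map (σ : K →* K) ω) ^ (i * i') = 1 := by rw [mul_comm, pow_mul]; exact (congrArg (· ^ i) h).trans (one_pow _)
    have h2 : (Units.map (σ : K →* K) ω) ^ r = 1 := by rw [← map_pow, hωr, map_one]
    have h4 := pow_eq_pow_of_modEq hi' h2
    rw [h1, pow_one] at h4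
    apply hω
    have h5 : Function.Injective (Units.map (σ : K →* K)) := Units.map_injective σ.injective
    apply h5
    rw [← h4, map_one]
  have c1 : x • k • ((θ : K) • a • v) = k • ((θ : K) • a • v) := by
    have h1 : x • ((θ : K) • a • v) = ((1 : Kˣ) : K) • ((θ : K) • a • v) := by
      rw [hxL, hav1, Units.val_one, one_smul]
    have h2 := conj_eig hxL hi hxi hσ h1
    rw [map_one, one_pow, Units.val_one, one_smul] at h2
    exact h2
  have c2 : x • k • b • v = (τ : K) • k • b • v := conj_eig hxL hi hxi hσ (hxbv v hxv)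
  have c3 : x • k • (b ^ 2) • nv = ((τ ^ 2 : Kˣ) : K) • k • (b ^ 2) • nv := by
    have h1 := conj_eig hxL hi hxi hσ (hxb2v nv (hxnv 1))
    rw [h1]
    congr 2
    change _ = ((Units.map (σ : K →* K) ω) ^ i') ^ 2
    rw [map_pow, ← pow_mul, ← pow_mul, mul_comm]
  have hbv : b • v ≠ 0 := by rw [ne_eq, smul_eq_zero_iff_eq]; exact hv
  have hbnv : (b ^ 2) • nv ≠ 0 := by rw [ne_eq, smul_eq_zero_iff_eq]; exact hnv
  have hkw' : k • ((θ : K) • a • v) + k • b • v + k • (b ^ 2) • nv = (θ : K) • a • v + b • v + (b ^ 2) • nv := by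
    rw [← smul_add, ← smul_add]
    exact hkw
  obtain ⟨e1, e23⟩ := components hrp hr hxL hω hωr hτ1 hτr (by rw [hxL, hav1]) (hxbv v hxv)
    (hxb2v nv (hxnv 1)) c1 c2 c3 hbv hbnv hkw'
  -- `a'`
  have hconj : ∀ y : GV V, (k * y * k⁻¹) • v = k • y • v := by
    intro y
    rw [mul_smul, mul_smul, hkv']
  have ha'B := hn k hk a ha
  have hb'B := hn k hk b hb
  obtain ⟨c, hcθ, m, ham⟩ : ∃ c : Kˣ, (c : K) * σ (θ : K) = θ ∧ ∃ m : ℕ, k * a * k⁻¹ = scal K V c * (a * x ^ m) := by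
    have h1 : σ (θ : K) • (k * a * k⁻¹) • v = (θ : K) • a • v := by
      rw [hconj, ← hσ]
      exact e1
    let sθ : Kˣ := Units.map (σ : K →* K) θ
    have hsθ : (sθ : K) = σ (θ : K) := rfl
    have h2 : (k * a * k⁻¹) • v = ((sθ⁻¹ * θ : Kˣ) : K) • a • v := by
      have h3 : (sθ : K) • (k * a * k⁻¹) • v = (sθ : K) • ((sθ⁻¹ * θ : Kˣ) : K) • a • v := by
        rw [hsθ, h1, ← hsθ, smul_smul, ← Units.val_mul, mul_inv_cancel_left]
      exact smul_right_injective V sθ.ne_zero h3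
    have h4 : (a⁻¹ * (k * a * k⁻¹)) • v = ((sθ⁻¹ * θ : Kˣ) : K) • v := by
      rw [mul_smul, h2, haL.inv, inv_smul_smul]
    obtain ⟨m, hm⟩ := hE' _ (B.mul_mem (B.inv_mem ha) ha'B) _ h4
    refine ⟨sθ⁻¹ * θ, ?_, m, ?_⟩
    · rw [← hsθ, ← Units.val_mul, mul_comm, mul_inv_cancel_left]
    · have h5 : k * a * k⁻¹ = a * (a⁻¹ * (k * a * k⁻¹)) := by group
      rw [h5, hm, ← mul_assoc, haL.scal_comm, mul_assoc]
  have hxm : ∀ j : ℕ, x ^ j • v = v := fun j => pow_fix hxv j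
  have hamj : ∀ j : ℕ, (k * a * k⁻¹) ^ j • v = ((c ^ j : Kˣ) : K) • (a ^ j) • v := by
    intro j
    have h1 : Commute a (x ^ m) := (hxcomm.symm).pow_right m
    have h2 : Commute (scal K V c) (a * x ^ m) :=
      ((haL.mul (hxL.pow m)).scal_comm c).symm
    rw [ham, h2.mul_pow, h1.mul_pow, ← map_pow, mul_smul, mul_smul, ← pow_mul, hxm, scal_smul]
  have hcr : c ^ r = 1 := by
    have h1 := hamj r
    rw [har, one_smul, conj_pow, har, mul_one, mul_inv_cancel, one_smul] at h1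
    have h2 : ((1 : Kˣ) : K) • v = ((c ^ r : Kˣ) : K) • v := by rw [← h1, Units.val_one, one_smul]
    exact (smul_cancel hv h2).symm
  have hknv : k • nv = Pr r a c⁻¹ v := by
    rw [hnvdef]
    unfold Pr
    rw [Finset.smul_sum]
    refine Finset.sum_congr rfl fun j _ => ?_
    rw [inv_inv, ← hamj, inv_one, one_pow, Units.val_one, one_smul, conj_pow, hconj]
  rcases e23 with ⟨e2, e3⟩ | ⟨e2, e3⟩
  · -- case 1
    obtain ⟨l, hl⟩ : ∃ l : ℕ, k * b * k⁻¹ = b * x ^ l := by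
      have h1 : (b⁻¹ * (k * b * k⁻¹)) • v = ((1 : Kˣ) : K) • v := by
        rw [mul_smul, hconj, e2, inv_smul_smul, Units.val_one, one_smul]
      obtain ⟨l, hl⟩ := hE' _ (B.mul_mem (B.inv_mem hb) hb'B) _ h1
      refine ⟨l, ?_⟩
      have h2 : k * b * k⁻¹ = b * (b⁻¹ * (k * b * k⁻¹)) := by group
      rw [h2, hl, map_one, one_mul]
    have hcx : CC (ω ^ l) (x ^ l) b := hxb.pow_left hxL l
    -- `ω ^ l n_c v = n v`
    have f1 : ((ω ^ l : Kˣ) : K) • Pr r a c⁻¹ v = nv := by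
      have h1 : k • (b ^ 2) • nv = (k * b * k⁻¹) • (k * b * k⁻¹) • Pr r a c⁻¹ v := by
        rw [← hknv, ← mul_smul, ← mul_smul, ← mul_smul]
        congr 1
        rw [pow_two]; group
      have h2 : ∀ u : V, x • u = u → (b * x ^ l) • u = b • u := by
        intro u hu
        rw [mul_smul, pow_fix hu]
      rw [h1, hl, h2 _ (hxnv _), mul_smul, hcx.smul, pow_fix (hxnv _), hbL, ← mul_smul, ← pow_two, ← (hbL.pow 2)] at e3
      exact (smul_left_cancel_iff (b ^ 2)).1 e3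
    have f2 : c⁻¹ = 1 := by
      have h1 : a • ((ω ^ l : Kˣ) : K) • Pr r a c⁻¹ v = a • nv := by rw [f1]
      rw [haL, Pr_mem haL har (by rw [inv_pow, hcr, inv_one]) v, hanv, smul_comm, f1] at h1
      have h2 : ((c⁻¹ : Kˣ) : K) • nv = ((1 : Kˣ) : K) • nv := by rw [h1, Units.val_one, one_smul]
      exact smul_cancel hnv h2
    have f3 : c = 1 := inv_eq_one.1 f2
    have f4 : ω ^ l = 1 := by
      rw [f2] at f1
      have h2 : ((ω ^ l : Kˣ) : K) • nv = ((1 : Kˣ) : K) • nv := by rw [Units.val_one, one_smul]; exact f1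
      exact smul_cancel hnv h2
    have f5 : k * b * k⁻¹ = b := by rw [hl, hωx l f4, mul_one]
    have f6 : k * b = b * k := by
      have : k * b = (k * b * k⁻¹) * k := by group
      rw [this, f5]
    -- `k` is linear
    have hσθ : σ (θ : K) = θ := by rw [f3, Units.val_one, one_mul] at hcθ; exact hcθ
    have hσ1 : ∀ d : K, σ d = d := by
      intro d
      by_cases hd : d = 0
      · rw [hd, map_zero]
      · have h1 : Units.map (σ : K →* K) θ = θ := Units.ext hσθ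
        obtain ⟨j, hj⟩ := (hθ (Units.mk0 d hd))
        have h2 : Units.map (σ : K →* K) (Units.mk0 d hd) = Units.mk0 d hd := by
          rw [← hj]
          simp only [map_zpow, h1]
        exact congrArg Units.val h2
    have hkL : Lin K k := fun d u => by rw [hσ, hσ1]
    -- commutation with `x`
    have g1 : k * x = x * k := by
      have h1 : CC ω (x ^ i) b := by
        have h2 : (k * x * k⁻¹) * (k * b * k⁻¹) = scal K V ω * ((k * b * k⁻¹) * (k * x * k⁻¹)) := by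
          have h3 : (k * x * k⁻¹) * (k * b * k⁻¹) = k * (x * b) * k⁻¹ := by group
          have h4 : (k * b * k⁻¹) * (k * x * k⁻¹) = k * (b * x) * k⁻¹ := by group
          rw [h3, h4, hxb, ← mul_assoc, hkL.scal_comm]
          simp only [mul_assoc]
        rw [hi, f5] at h2
        exact h2
      have h2 : ω = ω ^ i := h1.unique (hxb.pow_left hxL i)
      have h3 : x ^ i = x := by
        have h4 : ω ^ 1 = ω ^ i := by rw [pow_one]; exact h2
        rw [pow_eq_pow_iff_modEq, hωo] at h4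
        have h5 := pow_eq_pow_of_modEq h4 hxr
        rw [pow_one] at h5
        exact h5.symm
      have h4 : k * x = (k * x * k⁻¹) * k := by group
      rw [h4, hi, h3]
    refine ⟨hkL, g1, ?_, f6⟩
    obtain ⟨z, hz⟩ := S.heis.cc ha hb
    have h1 : CC z (a * x ^ m) b := by
      have h2 : (k * a * k⁻¹) * (k * b * k⁻¹) = scal K V z * ((k * b * k⁻¹) * (k * a * k⁻¹)) := by
        have h3 : (k * a * k⁻¹) * (k * b * k⁻¹) = k * (a * b) * k⁻¹ := by group
        have h4 : (k * b * k⁻¹) * (k * a * k⁻¹) = k * (b * a) * k⁻¹ := by group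
        rw [h3, h4, hz, ← mul_assoc, hkL.scal_comm]
        simp only [mul_assoc]
      rw [f5, ham, f3, map_one, one_mul] at h2
      exact h2
    have h2 : z = z * ω ^ m := h1.unique (CC.mul_left haL hz (hxb.pow_left hxL m))
    have h3 : ω ^ m = 1 := by
      have : z * 1 = z * ω ^ m := by rw [mul_one]; exact h2
      exact (mul_left_cancel this).symm
    have h4 : k * a = (k * a * k⁻¹) * k := by group
    rw [h4, ham, f3, map_one, one_mul, hωx m h3, mul_one]
  · -- case 2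
    exfalso
    have hb'v : (k * b * k⁻¹) • v = (b ^ 2) • nv := by rw [hconj, e2]
    let e : GV V := (b ^ 2)⁻¹ * (k * b * k⁻¹)
    have heB : e ∈ B := B.mul_mem (B.inv_mem (B.pow_mem hb 2)) hb'B
    have hev : e • v = nv := by
      change ((b ^ 2)⁻¹ * (k * b * k⁻¹)) • v = nv
      rw [mul_smul, hb'v, inv_smul_smul]
    obtain ⟨d, hd⟩ := S.heis.cc ha heB
    obtain ⟨m', hm'⟩ : ∃ m' : ℕ, e⁻¹ * a * e = x ^ m' := by
      have h1 : (e⁻¹ * a * e) • v = ((1 : Kˣ) : K) • v := by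
        rw [mul_smul, mul_smul, hev, hanv, ← hev, inv_smul_smul, Units.val_one, one_smul]
      obtain ⟨m', hm'⟩ := hE' _ (B.mul_mem (B.mul_mem (B.inv_mem heB) ha) heB) _ h1
      exact ⟨m', by rw [hm', map_one, one_mul]⟩
    have heL : Lin K e := S.heis.linb heB
    have ham' : a = scal K V d⁻¹ * x ^ m' := by
      have h1 : e⁻¹ * a * e = scal K V d * a := by
        have h2 : e⁻¹ * a * e = e⁻¹ * (a * e) := by group
        rw [h2, hd, ← mul_assoc, heL.inv.scal_comm]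
        group
      rw [← hm', h1, ← mul_assoc, ← map_mul, inv_mul_cancel, map_one, one_mul]
    have hr3 : r ≠ 3 := fun h => h3 h m' d⁻¹ ham'
    have hav : a • v = ((d⁻¹ : Kˣ) : K) • v := eig_of_lin hxv m' ham'
    have hdr : (d⁻¹) ^ r = 1 := by
      have h1 := pow_smul_of_eig haL hav r
      rw [har, one_smul, ← Units.val_pow_eq_pow_val] at h1
      have h2 : ((1 : Kˣ) : K) • v = (((d⁻¹) ^ r : Kˣ) : K) • v := by rw [← h1, Units.val_one, one_smul]
      exact (smul_cancel hv h2).symm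
    have hd1 : d⁻¹ = 1 := by
      by_contra hne
      exact hnv (Pr_eig_ne haL (one_pow r) hdr (fun h => hne h.symm) hav)
    have hnvr : nv = (r : K) • v := by
      rw [hd1] at hav
      exact Pr_eig_self haL hav
    let ρ : Kˣ := Units.mk0 (r : K) hr0
    obtain ⟨s, hs'⟩ : ∃ s : ℕ, e = scal K V ρ * x ^ s := hE' e heB ρ (by rw [hev, hnvr]; rfl)
    have hb' : k * b * k⁻¹ = (b ^ 2) * (scal K V ρ * x ^ s) := by
      rw [← hs']
      change k * b * k⁻¹ = b ^ 2 * ((b ^ 2)⁻¹ * (k * b * k⁻¹))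
      group
    have hcx : CC ((ω ^ 2) ^ s) (x ^ s) (b ^ 2) := hxb2.pow_left hxL s
    -- `b v = κ b ^ 4 v`
    have g1 : b • v = ((ρ * ρ * ρ * (ω ^ 2) ^ s : Kˣ) : K) • (b ^ 2) • (b ^ 2) • v := by
      have h1 : k • (b ^ 2) • nv = (k * b * k⁻¹) • (k * b * k⁻¹) • k • nv := by
        rw [← mul_smul, ← mul_smul, ← mul_smul]
        congr 1
        rw [pow_two]; group
      have h2 : k • nv = (ρ : K) • v := by
        rw [hnvr, hσ, map_natCast, hkv]
        rfl
      have hb'L : Lin K (k * b * k⁻¹) := S.heis.linb hb'B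
      have h5 : (k * b * k⁻¹) • v = (ρ : K) • (b ^ 2) • v := by
        rw [hb'v, hnvr, (hbL.pow 2)]
        rfl
      have h6 : (k * b * k⁻¹) • (b ^ 2) • v = ((ρ * (ω ^ 2) ^ s : Kˣ) : K) • (b ^ 2) • (b ^ 2) • v := by
        rw [hb', mul_smul, mul_smul, hcx.smul, hxm, scal_smul, (hbL.pow 2), (hbL.pow 2), smul_smul, Units.val_mul]
      rw [← e3, h1, h2, hb'L, h5, hb'L, hb'L, h6, smul_smul, smul_smul, ← Units.val_mul, ← Units.val_mul]
      congr 2
      simp only [mul_assoc]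
    have g2 : (b ^ 3) • v = (((ρ * ρ * ρ * (ω ^ 2) ^ s)⁻¹ : Kˣ) : K) • v := by
      have h1 : b • v = b • (((ρ * ρ * ρ * (ω ^ 2) ^ s : Kˣ) : K) • (b ^ 3) • v) := by
        rw [hbL, ← mul_smul b, ← pow_succ', g1, ← mul_smul (b ^ 2), ← pow_add]
      have h2 := (smul_left_cancel_iff b).1 h1
      generalize ρ * ρ * ρ * (ω ^ 2) ^ s = κ at h2 ⊢
      have h4 : ((κ⁻¹ : Kˣ) : K) • v = ((κ⁻¹ : Kˣ) : K) • (κ : K) • (b ^ 3) • v := by rw [← h2]
      rw [smul_smul, ← Units.val_mul, inv_mul_cancel, Units.val_one, one_smul] at h4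
      exact h4.symm
    obtain ⟨t, ht⟩ := hE' _ (B.pow_mem hb 3) _ g2
    have g3 : CC (1 : Kˣ) x (b ^ 3) := by
      rw [cc_one_iff, ht]
      exact (Commute.mul_right (hxL.scal_commute _) ((Commute.refl x).pow_right t)).eq
    have g4 : ω ^ 3 = 1 := (hxb.pow_right hbL 3).unique g3
    have g5 : r ∣ 3 := by rw [← hωo]; exact orderOf_dvd_of_pow_eq_one g4
    rcases (Nat.dvd_prime Nat.prime_three).1 g5 with h | h
    · exact hrp.one_lt.ne' h
    · exact hr3 h

/-- normalisation of `a` -/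
theorem key' (S : SetB K V A B r) (hr : r ≠ 2) (hs : ∀ h ∈ cl2 A, Semi K h)
    (hn : ∀ h ∈ cl2 A, ∀ b ∈ B, h * b * h⁻¹ ∈ B)
    (hpow : ∀ b ∈ B, ∃ c : Kˣ, b ^ r = scal K V (c ^ r)) {x : GV V} {v : V} (hg : Good K r B x v) {a b : GV V}
    (ha : a ∈ B) (hb : b ∈ B) (hax : a * x = x * a) {ω : Kˣ}
    (hω : ω ≠ 1) (hxb : CC ω x b) (h3 : r = 3 → ∀ (i : ℕ) (c : Kˣ), a ≠ scal K V c * x ^ i) :
    ∃ w : V, ∀ k ∈ cl2 A, k • v = v → k • w = w → Lin K k ∧ k * x = x * k ∧ k * a = a * k ∧ k * b = b * k := by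
  have hNV : Nontrivial V := nontrivial_V S
  have hrp : r.Prime := S.heis.prime
  have haL : Lin K a := S.heis.linb ha
  have hxL : Lin K x := S.heis.linb hg.1
  have hωr : ω ^ r = 1 := S.heis.cc_pow hg.1 hb hxb
  have hr0 : (r : K) ≠ 0 := prime_ne_zero hrp hω hωr
  obtain ⟨c, hc⟩ := hpow a ha
  let a₁ : GV V := scal K V c⁻¹ * a
  have ha₁B : a₁ ∈ B := B.mul_mem (S.heis.scal_mem _) ha
  have ha₁r : a₁ ^ r = 1 := by
    change (scal K V c⁻¹ * a) ^ r = 1
    rw [(haL.scal_commute c⁻¹).symm.mul_pow, hc, ← map_pow, ← map_mul, inv_pow, inv_mul_cancel, map_one]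
  obtain ⟨j, -, hj⟩ := exists_Pr_ne (primitive hrp hω hωr) hrp.one_lt hr0 a₁ hg.2.2.2.1
  let ζ : Kˣ := ω ^ j
  have hζr : ζ ^ r = 1 := by
    change (ω ^ j) ^ r = 1
    rw [← pow_mul, mul_comm, pow_mul, hωr, one_pow]
  let a₂ : GV V := scal K V ζ⁻¹ * a₁
  have ha₁L : Lin K a₁ := S.heis.linb ha₁B
  have ha₂pow : ∀ n : ℕ, a₂ ^ n = scal K V (ζ⁻¹ ^ n) * a₁ ^ n := by
    intro n
    change (scal K V ζ⁻¹ * a₁) ^ n = _
    rw [(ha₁L.scal_commute ζ⁻¹).symm.mul_pow, ← map_pow]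
  have ha₂B : a₂ ∈ B := B.mul_mem (S.heis.scal_mem _) ha₁B
  have ha₂r : a₂ ^ r = 1 := by
    rw [ha₂pow, ha₁r, mul_one, inv_pow, hζr, inv_one, map_one]
  have ha₂a : a₂ = scal K V (ζ⁻¹ * c⁻¹) * a := by
    change scal K V ζ⁻¹ * (scal K V c⁻¹ * a) = _
    rw [map_mul, mul_assoc]
  have hPr : Pr r a₂ (1 : Kˣ) v = Pr r a₁ ζ v := by
    unfold Pr
    refine Finset.sum_congr rfl fun n _ => ?_
    rw [ha₂pow, mul_smul, scal_smul, inv_one, one_pow, Units.val_one, one_smul]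
  have hax₂ : a₂ * x = x * a₂ := by
    rw [ha₂a, mul_assoc, hax, ← mul_assoc, ← hxL.scal_comm, mul_assoc]
  obtain ⟨w, hw⟩ := key S hr hs hn hg ha₂B hb ha₂r (by rw [hPr]; exact hj) hax₂ hω hxb (by
    intro h i d hd
    apply h3 h i ((ζ⁻¹ * c⁻¹)⁻¹ * d)
    rw [map_mul, mul_assoc, ← hd, ha₂a, ← mul_assoc, ← map_mul, inv_mul_cancel, map_one, one_mul])
  refine ⟨w, fun k hk hkv hkw => ?_⟩
  obtain ⟨h1, h2, h3', h4⟩ := hw k hk hkv hkw
  refine ⟨h1, h2, ?_, h4⟩
  have h5 : a = scal K V (ζ⁻¹ * c⁻¹)⁻¹ * a₂ := by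
    rw [ha₂a, ← mul_assoc, ← map_mul, inv_mul_cancel, map_one, one_mul]
  have c1 : Commute k a₂ := h3'
  rw [h5]
  exact (Commute.mul_right (h1.scal_commute _) c1).eq

/-- agreement, `x` not a scalar -/
theorem agree (S : SetB K V A B r) (hr : r ≠ 2) (hs : ∀ h ∈ cl2 A, Semi K h)
    (hn : ∀ h ∈ cl2 A, ∀ b ∈ B, h * b * h⁻¹ ∈ B)
    (hpow : ∀ b ∈ B, ∃ c : Kˣ, b ^ r = scal K V (c ^ r))
    (hg : ∃ x v, Good K r B x v)
    (h9 : r = 3 → ∀ x v, Good K r B x v →
      ∃ a ∈ B, a * x = x * a ∧ ∀ (i : ℕ) (c : Kˣ), a ≠ scal K V c * x ^ i)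
    {h : GV V} (hh : h ∈ cl2 A) {x y : GV V} (hx : x ∈ B) (hy : y ∈ B) (hns : ∀ c : Kˣ, x ≠ scal K V c) :
    ∃ g ∈ A, g * x * g⁻¹ = h * x * h⁻¹ ∧ g * y * g⁻¹ = h * y * h⁻¹ := by
  have hNV : Nontrivial V := nontrivial_V S
  obtain ⟨x₁, v, hgood, hne⟩ := exists_good S hg hx hns
  have hx₁L : Lin K x₁ := S.heis.linb hgood.1
  have hxL : Lin K x := S.heis.linb hx
  obtain ⟨ω, hω⟩ := S.heis.cc hgood.1 hx
  have hω1 : ω ≠ 1 := by
    rintro rfl
    exact hne (cc_one_iff.1 hω).symm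
  have hωr := S.heis.cc_pow hgood.1 hx hω
  obtain ⟨η, hη⟩ := S.heis.cc hgood.1 hy
  have hηr := S.heis.cc_pow hgood.1 hy hη
  obtain ⟨j, -, hj⟩ := exists_pow_eq S.heis.prime hω1 hωr hηr
  -- `a = y x ^ (-j)`
  let a : GV V := y * (x ^ j)⁻¹
  have haB : a ∈ B := B.mul_mem hy (B.inv_mem (B.pow_mem hx j))
  have hya : y = a * x ^ j := by
    change y = y * (x ^ j)⁻¹ * x ^ j
    rw [inv_mul_cancel_right]
  have hax : a * x₁ = x₁ * a := by
    obtain ⟨ξ, hξ⟩ := S.heis.cc hgood.1 haB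
    have h1 : CC (ξ * ω ^ j) x₁ (a * x ^ j) := CC.mul_right (S.heis.linb haB) hξ (hω.pow_right hxL j)
    rw [← hya] at h1
    have h2 := h1.unique hη
    rw [← hj] at h2
    have h3 : ξ = 1 := by
      have : ξ * ω ^ j = 1 * ω ^ j := by rw [one_mul]; exact h2
      exact mul_right_cancel this
    rw [h3] at hξ
    exact (cc_one_iff.1 hξ).symm
  -- it suffices that `k = g⁻¹ h` commutes with `x` and `a`
  have hfin : ∀ w : V, (∀ k ∈ cl2 A, k • v = v → k • w = w → k * x = x * k ∧ k * a = a * k) →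
      ∃ g ∈ A, g * x * g⁻¹ = h * x * h⁻¹ ∧ g * y * g⁻¹ = h * y * h⁻¹ := by
    intro w hw
    obtain ⟨g, hgA, hgv, hgw⟩ := hh v w
    have hk : g⁻¹ * h ∈ cl2 A := (cl2 A).mul_mem (le_cl2 A (A.inv_mem hgA)) hh
    obtain ⟨h1, h2⟩ := hw (g⁻¹ * h) hk (by rw [mul_smul, ← hgv, inv_smul_smul])
      (by rw [mul_smul, ← hgw, inv_smul_smul])
    have h3 : (g⁻¹ * h) * y = y * (g⁻¹ * h) := by
      have c1 : Commute (g⁻¹ * h) x := h1
      have c2 : Commute (g⁻¹ * h) a := h2
      rw [hya]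
      exact (c2.mul_right (c1.pow_right j)).eq
    have h4 : ∀ z : GV V, (g⁻¹ * h) * z = z * (g⁻¹ * h) → g * z * g⁻¹ = h * z * h⁻¹ := by
      intro z hz
      have : h * z * h⁻¹ = g * ((g⁻¹ * h) * z) * h⁻¹ := by group
      rw [this, hz]
      group
    exact ⟨g, hgA, h4 x h1, h4 y h3⟩
  by_cases hcase : r = 3 ∧ ∃ (i : ℕ) (c : Kˣ), a = scal K V c * x₁ ^ i
  · obtain ⟨h3, i, c, hic⟩ := hcase
    obtain ⟨a', ha'B, ha'x, ha'n⟩ := h9 h3 x₁ v hgood
    obtain ⟨w, hw⟩ := key' S hr hs hn hpow hgood ha'B hx ha'x hω1 hω (fun _ => ha'n)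
    refine hfin w fun k hk hkv hkw => ?_
    obtain ⟨h1, h2, -, h4⟩ := hw k hk hkv hkw
    refine ⟨h4, ?_⟩
    rw [hic]
    have c1 : Commute k x₁ := h2
    exact (Commute.mul_right (h1.scal_commute c) (c1.pow_right i)).eq
  · obtain ⟨w, hw⟩ := key' S hr hs hn hpow hgood haB hx hax hω1 hω (fun h3 i c hic => hcase ⟨h3, i, c, hic⟩)
    refine hfin w fun k hk hkv hkw => ?_
    obtain ⟨-, -, h3, h4⟩ := hw k hk hkv hkw
    exact ⟨h4, h3⟩

theorem EncOdd.main (S : SetB K V A B r) (hr : r ≠ 2) (hs : ∀ h ∈ cl2 A, Semi K h)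
    (hn : ∀ h ∈ cl2 A, ∀ b ∈ B, h * b * h⁻¹ ∈ B)
    (hpow : ∀ b ∈ B, ∃ c : Kˣ, b ^ r = scal K V (c ^ r))
    (hg : ∃ x v, Good K r B x v)
    (h9 : r = 3 → ∀ x v, Good K r B x v →
      ∃ a ∈ B, a * x = x * a ∧ ∀ (i : ℕ) (c : Kˣ), a ≠ scal K V c * x ^ i) :
    PairAgree K A B := by
  intro h hh x hx y hy
  have hone : ∀ z : GV V, ∃ c : Kˣ, z = scal K V c * z := fun z => ⟨1, by rw [map_one, one_mul]⟩
  have hsc : ∀ g ∈ A, ∀ c : Kˣ, ∃ d : Kˣ, g * scal K V c * g⁻¹ = scal K V d * (h * scal K V c * h⁻¹) := by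
    intro g hg c
    obtain ⟨d, hd⟩ := semi_scal_conj (S.semi g hg) c
    obtain ⟨d', hd'⟩ := semi_scal_conj (hs h hh) c
    exact ⟨d * d'⁻¹, by rw [hd, hd', ← map_mul, inv_mul_cancel_right]⟩
  by_cases hxs : ∃ c : Kˣ, x = scal K V c
  · by_cases hys : ∃ c : Kˣ, y = scal K V c
    · obtain ⟨c, rfl⟩ := hxs
      obtain ⟨d, rfl⟩ := hys
      exact ⟨1, A.one_mem, hsc 1 A.one_mem c, hsc 1 A.one_mem d⟩
    · push Not at hys
      obtain ⟨g, hgA, h1, -⟩ := agree S hr hs hn hpow hg h9 hh hy hx hys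
      obtain ⟨c, rfl⟩ := hxs
      refine ⟨g, hgA, hsc g hgA c, ?_⟩
      rw [h1]
      exact hone _
  · push Not at hxs
    obtain ⟨g, hgA, h1, h2⟩ := agree S hr hs hn hpow hg h9 hh hx hy hxs
    refine ⟨g, hgA, ?_, ?_⟩
    · rw [h1]; exact hone _
    · rw [h2]; exact hone _

end

end Cfsg.Agent.H604.TcEncOdd
end

-- part: H877/TcAct
section
/-!
# S3621: the action of `cl2 A` on `B / Kˣ` (helper877)
-/

set_option autoImplicit false

namespace Cfsg.Agent.H877.TcAct

open Cfsg.Agent.H412.Tc Equiv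

universe u

variable {K V : Type u} [Field K] [Finite K] [AddCommGroup V] [Finite V] [Module K V]
  {A B : Subgroup (GV V)} {r : ℕ}

/-- The scalars in `B`. -/
def Zs (K : Type u) {V : Type u} [Field K] [AddCommGroup V] [Module K V] (B : Subgroup (GV V)) : Subgroup B :=
  (scal K V).range.subgroupOf B

omit [Finite K] [Finite V] in
theorem mem_Zs {b : B} : b ∈ Zs K B ↔ ∃ c : Kˣ, scal K V c = b.1 := by
  unfold Zs
  rw [Subgroup.mem_subgroupOf, MonoidHom.mem_range]

omit [Finite K] [Finite V] in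
theorem normal_Zs (hB : Heis K V r B) : (Zs K B).Normal := by
  constructor
  intro n hn g
  rw [mem_Zs] at hn ⊢
  obtain ⟨c, hc⟩ := hn
  refine ⟨c, ?_⟩
  show _ = g.1 * n.1 * g.1⁻¹
  rw [← hc, (hB.linb g.2).scal_comm, mul_inv_cancel_right]

omit [Finite K] [Finite V] in
/-- Equality in the quotient. -/
theorem mk_eq_iff {a b : B} : (QuotientGroup.mk a : B ⧸ Zs K B) = QuotientGroup.mk b ↔
    ∃ c : Kˣ, b.1 = a.1 * scal K V c := by
  rw [QuotientGroup.eq, mem_Zs]
  constructor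
  · rintro ⟨c, hc⟩
    refine ⟨c, ?_⟩
    rw [hc]
    show b.1 = a.1 * (a.1⁻¹ * b.1)
    rw [mul_inv_cancel_left]
  · rintro ⟨c, hc⟩
    refine ⟨c, ?_⟩
    show _ = a.1⁻¹ * b.1
    rw [hc, inv_mul_cancel_left]

omit [Finite K] [Finite V] in
theorem semi_scal {g : GV V} (hg : Semi K g) (c : Kˣ) : ∃ d : Kˣ, g * scal K V c * g⁻¹ = scal K V d := by
  obtain ⟨σ, hσ⟩ := hg
  refine ⟨Units.map (σ : K →* K) c, GV_ext fun v => ?_⟩
  rw [mul_smul, mul_smul, scal_smul, hσ, smul_inv_smul, scal_smul]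
  rfl

variable (K) in
/-- The action on `B / Kˣ`. -/
noncomputable def act (B : Subgroup (GV V)) {H : Subgroup (GV V)} (hs : ∀ h ∈ H, Semi K h)
    (hn : ∀ h ∈ H, ∀ b ∈ B, h * b * h⁻¹ ∈ B) : H →* Perm (B ⧸ Zs K B) :=
  MonoidHom.toHomPerm
    { toFun := fun h => Quotient.map' (fun b => (⟨h.1 * b.1 * h.1⁻¹, hn h.1 h.2 b.1 b.2⟩ : B)) (by
        intro a b hab
        have h1 : (QuotientGroup.mk a : B ⧸ Zs K B) = QuotientGroup.mk b := Quotient.sound' hab
        obtain ⟨c, hc⟩ := mk_eq_iff.1 h1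
        apply Quotient.exact'
        show (QuotientGroup.mk _ : B ⧸ Zs K B) = QuotientGroup.mk _
        rw [mk_eq_iff]
        obtain ⟨d, hd⟩ := semi_scal (hs h.1 h.2) c
        refine ⟨d, ?_⟩
        show h.1 * b.1 * h.1⁻¹ = h.1 * a.1 * h.1⁻¹ * scal K V d
        rw [hc, ← hd]; group)
      map_one' := by
        funext x
        induction x using Quotient.inductionOn' with
        | h x =>
        refine congrArg (QuotientGroup.mk : B → B ⧸ Zs K B) (a₂ := x) (Subtype.ext ?_)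
        show (1 : GV V) * x.1 * 1⁻¹ = x.1
        rw [one_mul, inv_one, mul_one]
      map_mul' := by
        intro h k
        funext x
        induction x using Quotient.inductionOn' with
        | h x =>
        refine congrArg (QuotientGroup.mk : B → B ⧸ Zs K B) (Subtype.ext ?_)
        show (h.1 * k.1) * x.1 * (h.1 * k.1)⁻¹ = h.1 * (k.1 * x.1 * k.1⁻¹) * h.1⁻¹
        group }

omit [Finite K] [Finite V] in
theorem act_mk {H : Subgroup (GV V)} (hs : ∀ h ∈ H, Semi K h)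
    (hn : ∀ h ∈ H, ∀ b ∈ B, h * b * h⁻¹ ∈ B) (h : H) (b : B) :
    act K B hs hn h (QuotientGroup.mk b : B ⧸ Zs K B) =
      QuotientGroup.mk ⟨h.1 * b.1 * h.1⁻¹, hn h.1 h.2 b.1 b.2⟩ := rfl

omit [Finite K] [Finite V] in
/-- The kernel of the action. -/
theorem act_eq_one {H : Subgroup (GV V)} (hB : Heis K V r B) (hs : ∀ h ∈ H, Semi K h)
    (hn : ∀ h ∈ H, ∀ b ∈ B, h * b * h⁻¹ ∈ B) {h : H} (hh : act K B hs hn h = 1) :
    ∀ b ∈ B, ∃ c : Kˣ, h.1 * b * h.1⁻¹ = scal K V c * b := by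
  intro b hb
  have h1 := congrArg (fun f : Perm (B ⧸ Zs K B) => f (QuotientGroup.mk ⟨b, hb⟩)) hh
  simp only [act_mk] at h1
  have h2 : (QuotientGroup.mk (⟨h.1 * b * h.1⁻¹, hn h.1 h.2 b hb⟩ : B) : B ⧸ Zs K B) = QuotientGroup.mk ⟨b, hb⟩ := h1
  obtain ⟨c, hc⟩ := mk_eq_iff.1 h2.symm
  refine ⟨c, ?_⟩
  rw [← (hB.linb hb).scal_comm]
  exact hc

end Cfsg.Agent.H877.TcAct
end

-- part: H560/TcFlag
section
/-!
# Flags in groups of Heisenberg type (helper560, for S3621)

A flag is a subgroup `T ≤ B` fixing a nonzero vector and equal, up to scalars, to its double centralizer in `B`.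
-/

set_option autoImplicit false

namespace Cfsg.Agent.H560.TcFlag

open Cfsg.Agent.H412.Tc

variable {K V : Type*} [Field K] [AddCommGroup V] [Module K V]

/-- `b ∈ C_B(T)` -/
def Cen (B T : Subgroup (GV V)) (b : GV V) : Prop := b ∈ B ∧ ∀ t ∈ T, b * t = t * b

/-- `b ∈ Z T` -/
def ZT (K : Type*) {V : Type*} [Field K] [AddCommGroup V] [Module K V] (T : Subgroup (GV V)) (b : GV V) : Prop :=
  ∃ t ∈ T, ∃ c : Kˣ, b = scal K V c * t

structure Flag (K : Type*) {V : Type*} [Field K] [AddCommGroup V] [Module K V] (B T : Subgroup (GV V)) : Prop where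
  le : T ≤ B
  fix : ∃ v : V, v ≠ 0 ∧ ∀ t ∈ T, t • v = v
  dc : ∀ b ∈ B, (∀ c, Cen B T c → b * c = c * b) → ZT K T b

/-- A generic fixed vector of the flag `T`. -/
def Gen (K : Type*) {V : Type*} [Field K] [AddCommGroup V] [Module K V] (B T : Subgroup (GV V)) (p : V) : Prop :=
  p ≠ 0 ∧ (∀ t ∈ T, t • p = p) ∧ ∀ b ∈ B, Eig K b p → ZT K T b

theorem Cen.mul {B T : Subgroup (GV V)} {a b : GV V} (ha : Cen B T a) (hb : Cen B T b) : Cen B T (a * b) :=
  ⟨B.mul_mem ha.1 hb.1, fun t ht => by rw [mul_assoc, hb.2 t ht, ← mul_assoc, ha.2 t ht, mul_assoc]⟩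

theorem Cen.inv {B T : Subgroup (GV V)} {a : GV V} (ha : Cen B T a) : Cen B T a⁻¹ :=
  ⟨B.inv_mem ha.1, fun t ht => by
    have h : Commute a t := ha.2 t ht
    exact h.inv_left.eq⟩

theorem Cen.pow {B T : Subgroup (GV V)} {a : GV V} (ha : Cen B T a) (n : ℕ) : Cen B T (a ^ n) :=
  ⟨B.pow_mem ha.1 n, fun t ht => by
    have h : Commute a t := ha.2 t ht
    exact (h.pow_left n).eq⟩

theorem Cen.scal {r : ℕ} {B T : Subgroup (GV V)} (hB : Heis K V r B) (hT : T ≤ B) (c : Kˣ) :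
    Cen B T (Cfsg.Agent.H412.Tc.scal K V c) :=
  ⟨hB.scal_mem c, fun t ht => ((hB.linb (hT ht)).scal_comm c).symm⟩

/-- `T⟨y⟩` for `y` commuting with `T` -/
def ext (T : Subgroup (GV V)) (y : GV V) (h : ∀ t ∈ T, y * t = t * y) : Subgroup (GV V) where
  carrier := {g | ∃ t ∈ T, ∃ i : ℤ, g = t * y ^ i}
  mul_mem' := by
    rintro _ _ ⟨t, ht, i, rfl⟩ ⟨s, hs, j, rfl⟩
    refine ⟨t * s, T.mul_mem ht hs, i + j, ?_⟩
    have h1 : Commute y s := h s hs
    have h2 : y ^ i * s = s * y ^ i := (h1.zpow_left i).eq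
    rw [zpow_add]
    calc t * y ^ i * (s * y ^ j) = t * (y ^ i * s) * y ^ j := by simp only [mul_assoc]
      _ = _ := by rw [h2]; simp only [mul_assoc]
  one_mem' := ⟨1, T.one_mem, 0, by simp⟩
  inv_mem' := by
    rintro _ ⟨t, ht, i, rfl⟩
    refine ⟨t⁻¹, T.inv_mem ht, -i, ?_⟩
    have h1 : Commute y t := h t ht
    have h2 : Commute (y ^ i)⁻¹ t⁻¹ := ((h1.zpow_left i).inv_left).inv_right
    rw [mul_inv_rev, zpow_neg, h2.eq]

section ext

variable {T : Subgroup (GV V)} {y : GV V} {h : ∀ t ∈ T, y * t = t * y}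

theorem mem_ext {g : GV V} : g ∈ ext T y h ↔ ∃ t ∈ T, ∃ i : ℤ, g = t * y ^ i := Iff.rfl

theorem le_ext : T ≤ ext T y h := fun t ht => ⟨t, ht, 0, by simp⟩

theorem y_mem_ext : y ∈ ext T y h := ⟨1, T.one_mem, 1, by simp⟩

theorem ext_fix {p : V} (hT : ∀ t ∈ T, t • p = p) (hy : y • p = p) : ∀ t ∈ ext T y h, t • p = p := by
  rintro _ ⟨t, ht, i, rfl⟩
  have h1 : y ^ i • p = p := by
    have : y ∈ MulAction.stabilizer (GV V) p := hy
    exact (MulAction.stabilizer (GV V) p).zpow_mem this i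
  rw [mul_smul, h1, hT t ht]

theorem ext_le {B : Subgroup (GV V)} (hT : T ≤ B) (hy : y ∈ B) : ext T y h ≤ B := by
  rintro _ ⟨t, ht, i, rfl⟩
  exact B.mul_mem (hT ht) (B.zpow_mem hy i)

theorem cen_ext_iff {B : Subgroup (GV V)} {b : GV V} :
    Cen B (ext T y h) b ↔ Cen B T b ∧ b * y = y * b := by
  constructor
  · rintro ⟨h1, h2⟩
    exact ⟨⟨h1, fun t ht => h2 t (le_ext ht)⟩, h2 y y_mem_ext⟩
  · rintro ⟨⟨h1, h2⟩, h3⟩
    refine ⟨h1, ?_⟩
    rintro _ ⟨t, ht, i, rfl⟩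
    have h4 : Commute b t := h2 t ht
    have h5 : Commute b y := h3
    exact (h4.mul_right (h5.zpow_right i)).eq

theorem card_lt_ext [Finite (GV V)] (hny : y ∉ T) : Nat.card T < Nat.card (ext T y h) := by
  have h1 : T < ext T y h := lt_of_le_of_ne le_ext fun he => hny (he ▸ y_mem_ext)
  exact Set.ncard_lt_ncard (SetLike.coe_ssubset_coe.mpr h1) (Set.toFinite _)

end ext

section main

variable {r : ℕ} {B T : Subgroup (GV V)} (hB : Heis K V r B)

include hB

/-- The trivial flag. -/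
theorem flag_bot [Nontrivial V] : Flag K B ⊥ where
  le := bot_le
  fix := by
    obtain ⟨v, hv⟩ := exists_ne (0 : V)
    exact ⟨v, hv, fun t ht => by rw [Subgroup.mem_bot.mp ht, one_smul]⟩
  dc := by
    intro b hb h
    obtain ⟨c, hc⟩ := hB.cent b hb fun a ha => h a ⟨ha, fun t ht => by
      rw [Subgroup.mem_bot.mp ht, one_mul, mul_one]⟩
    exact ⟨1, Subgroup.one_mem _, c, by rw [hc, mul_one]⟩

/-- An element with an eigenvector fixed by `T` centralizes `T`. -/
theorem cen_of_eig (hT : T ≤ B) {b : GV V} (hb : b ∈ B) {v : V} (hv : v ≠ 0) (hTv : ∀ t ∈ T, t • v = v)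
    (he : Eig K b v) : Cen B T b :=
  ⟨hb, fun t ht => hB.commute_of_eig hb (hT ht) hv he ⟨1, by rw [hTv t ht, Units.val_one, one_smul]⟩⟩

/-- `y ∈ B` outside `Z T` does not commute with `C_B(T)`; the commutator can be prescribed. -/
theorem exists_z [Nontrivial V] (hT : Flag K B T) {y : GV V} (hy : y ∈ B) (hny : ¬ ZT K T y) {ω : Kˣ}
    (hω : ω ^ r = 1) : ∃ z, Cen B T z ∧ CC ω y z := by
  have h1 : ∃ z, Cen B T z ∧ y * z ≠ z * y := by
    by_contra hcon
    push Not at hcon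
    exact hny (hT.dc y hy hcon)
  obtain ⟨z, hz, hne⟩ := h1
  obtain ⟨c, hc⟩ := hB.cc hy hz.1
  have hc1 : c ≠ 1 := by
    rintro rfl
    exact hne (cc_one_iff.1 hc)
  obtain ⟨i, -, hi⟩ := exists_pow_eq hB.prime hc1 (hB.cc_pow hy hz.1 hc) hω
  exact ⟨z ^ i, hz.pow i, hi ▸ hc.pow_right (hB.linb hz.1) i⟩

/-- Extension of a flag. -/
theorem Flag.ext_step [Nontrivial V] (hT : Flag K B T) {y : GV V} (hy : Cen B T y) (hny : ¬ ZT K T y) {p : V}
    (hp : p ≠ 0) (hTp : ∀ t ∈ T, t • p = p) (hyp : y • p = p) {ω : Kˣ} (hω1 : ω ≠ 1) (hω : ω ^ r = 1) :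
    Flag K B (ext T y hy.2) where
  le := ext_le hT.le hy.1
  fix := ⟨p, hp, ext_fix hTp hyp⟩
  dc := by
    intro d hd hcen
    obtain ⟨z, hz, hyz⟩ := exists_z hB hT hy.1 hny hω
    -- make `d y^j` commute with `z`
    obtain ⟨c, hc⟩ := hB.cc hd hz.1
    obtain ⟨j, -, hj⟩ := exists_pow_eq hB.prime hω1 hω (ζ := c⁻¹) (by rw [inv_pow, hB.cc_pow hd hz.1 hc, inv_one])
    have h1 : CC (1 : Kˣ) (d * y ^ j) z := by
      have h2 := hc.mul_left (hB.linb hd) (hyz.pow_left (hB.linb hy.1) j)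
      rwa [hj, mul_inv_cancel] at h2
    rw [cc_one_iff] at h1
    have h3 : ZT K T (d * y ^ j) := by
      refine hT.dc _ (B.mul_mem hd (B.pow_mem hy.1 j)) fun b hb => ?_
      -- `b z^k` centralizes `T'`
      obtain ⟨e, he⟩ := hB.cc hy.1 hb.1
      obtain ⟨k, -, hk⟩ := exists_pow_eq hB.prime hω1 hω (ζ := e⁻¹)
        (by rw [inv_pow, hB.cc_pow hy.1 hb.1 he, inv_one])
      have h4 : CC (1 : Kˣ) y (b * z ^ k) := by
        have h5 := he.mul_right (hB.linb hb.1) (hyz.pow_right (hB.linb hz.1) k)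
        rwa [hk, mul_inv_cancel] at h5
      rw [cc_one_iff] at h4
      have h6 : Cen B (ext T y hy.2) (b * z ^ k) := cen_ext_iff.2 ⟨hb.mul (hz.pow k), h4.symm⟩
      have h7 : Commute d (b * z ^ k) := hcen _ h6
      have h8 : Commute y (b * z ^ k) := h4
      have h9 : Commute (d * y ^ j) (b * z ^ k) := h7.mul_left (h8.pow_left j)
      have h10 : Commute (d * y ^ j) (z ^ k) := Commute.pow_right h1 k
      have h11 : Commute (d * y ^ j) (b * z ^ k * (z ^ k)⁻¹) := h9.mul_right h10.inv_right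
      rw [mul_inv_cancel_right] at h11
      exact h11.eq
    obtain ⟨t, ht, c', hc'⟩ := h3
    refine ⟨t * y ^ (-(j : ℤ)), ⟨t, ht, _, rfl⟩, c', ?_⟩
    rw [← mul_assoc, ← hc', zpow_neg, zpow_natCast, mul_inv_cancel_right]

/-- Some root of unity times `y` fixes a nonzero vector fixed by `T`. -/
theorem exists_scaled (hTB : T ≤ B) {v : V} (hv : v ≠ 0) (hTv : ∀ t ∈ T, t • v = v) {y : GV V}
    (hy : Cen B T y) (hyr : y ^ r = 1) {ω : Kˣ} (hω1 : ω ≠ 1) (hω : ω ^ r = 1) :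
    ∃ ζ : Kˣ, ζ ^ r = 1 ∧ ∃ p : V, p ≠ 0 ∧ (∀ t ∈ T, t • p = p) ∧ (scal K V ζ * y) • p = p := by
  obtain ⟨i, -, hi⟩ := exists_Pr_ne (primitive hB.prime hω1 hω) hB.prime.one_lt
    (prime_ne_zero hB.prime hω1 hω) y hv
  have hωi : (ω ^ i) ^ r = 1 := by rw [← pow_mul, mul_comm, pow_mul, hω, one_pow]
  refine ⟨(ω ^ i)⁻¹, by rw [inv_pow, hωi, inv_one], Pr r y (ω ^ i) v, hi, ?_, ?_⟩
  · intro t ht
    rw [Pr_comm (hB.linb (hTB ht)) (hy.2 t ht).symm, hTv t ht]
  · rw [mul_smul, Pr_mem (hB.linb hy.1) hyr hωi, scal_smul, smul_smul, ← Units.val_mul, inv_mul_cancel,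
      Units.val_one, one_smul]

omit hB in
theorem ZT.of_scal {y : GV V} {c : Kˣ} (h : ZT K T (scal K V c * y)) : ZT K T y := by
  obtain ⟨t, ht, d, hd⟩ := h
  refine ⟨t, ht, c⁻¹ * d, ?_⟩
  rw [map_mul, mul_assoc, ← hd, ← mul_assoc, ← map_mul, inv_mul_cancel, map_one, one_mul]

/-- If `C_B(T) ≤ Z T`, every `T`-fixed vector is generic. -/
theorem gen_of_max (hTB : T ≤ B) (hmax : ∀ b, Cen B T b → ZT K T b) {v : V} (hv : v ≠ 0)
    (hTv : ∀ t ∈ T, t • v = v) : Gen K B T v :=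
  ⟨hv, hTv, fun _ hb he => hmax _ (cen_of_eig hB hTB hb hv hTv he)⟩

end main

theorem Pr_add (r : ℕ) (y : GV V) (ζ : Kˣ) (u v : V) : Pr r y ζ (u + v) = Pr r y ζ u + Pr r y ζ v := by
  unfold Pr
  simp only [smul_add, Finset.sum_add_distrib]

theorem Pr_smul {r : ℕ} {y : GV V} (hy : Lin K y) (ζ : Kˣ) (c : K) (v : V) :
    Pr r y ζ (c • v) = c • Pr r y ζ v := by
  unfold Pr
  rw [Finset.smul_sum]
  refine Finset.sum_congr rfl fun j _ => ?_
  rw [hy.pow j, smul_comm]

end Cfsg.Agent.H560.TcFlag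
end

-- part: H560/TcFlagOdd
section
/-!
# Good elements for odd `r` (helper560, for S3621)
-/

set_option autoImplicit false

namespace Cfsg.Agent.H560.TcFlagOdd

open Cfsg.Agent.H412.Tc Cfsg.Agent.H560.TcFlag

universe u

section

variable {K V : Type*} [Field K] [AddCommGroup V] [Module K V] [Finite V]
variable {r : ℕ} {B T : Subgroup (GV V)}

theorem finite_GV (V : Type*) [AddCommGroup V] [Finite V] : Finite (GV V) := by
  have : Finite (AddMonoid.End V) := Finite.of_injective (fun f : AddMonoid.End V => (f : V → V))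
    DFunLike.coe_injective
  exact Finite.of_injective (fun g : GV V => (g : AddMonoid.End V)) Units.val_injective

omit [Finite V] in
theorem scal_mul_pow {y : GV V} (hy : Lin K y) (c : Kˣ) (n : ℕ) :
    (scal K V c * y) ^ n = scal K V (c ^ n) * y ^ n := by
  have h : Commute (scal K V c) y := (hy.scal_comm c).symm
  rw [h.mul_pow, map_pow]

/-- The generic vector of `T` from one of `T⟨y⟩`, for `r` odd. -/
theorem gen_step [Nontrivial V] (hB : Heis K V r B) (hr : r ≠ 2) {ω : Kˣ} (hω1 : ω ≠ 1) (hω : ω ^ r = 1)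
    (hTB : T ≤ B) {y : GV V} (hy : Cen B T y) (hyr : y ^ r = 1) {z : GV V} (hz : Cen B T z)
    (hyz : CC ω y z) {p : V} (hp : Gen K B (ext T y hy.2) p) : Gen K B T (p + z • p) := by
  obtain ⟨hp0, hpT, hpg⟩ := hp
  have hT : ∀ t ∈ T, t • p = p := fun t ht => hpT t (le_ext ht)
  have hyp : y • p = p := hpT y y_mem_ext
  have hyl := hB.linb hy.1
  have hzl := hB.linb hz.1
  have hyzp : y • z • p = (ω : K) • z • p := by rw [hyz.smul, hyp]
  have hzp0 : z • p ≠ 0 := fun h => hp0 ((smul_eq_zero_iff_eq z).1 h)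
  have hr0 : (r : K) ≠ 0 := prime_ne_zero hB.prime hω1 hω
  have hyp' : y • p = ((1 : Kˣ) : K) • p := by rw [hyp, Units.val_one, one_smul]
  have h1r : (1 : Kˣ) ^ r = 1 := one_pow r
  -- the projections of `v`
  have hv1 : Pr r y (1 : Kˣ) (p + z • p) = (r : K) • p := by
    rw [Pr_add, Pr_eig_self hyl hyp', Pr_eig_ne hyl h1r hω hω1.symm hyzp, add_zero]
  have hvω : Pr r y ω (p + z • p) = (r : K) • z • p := by
    rw [Pr_add, Pr_eig_self hyl hyzp, Pr_eig_ne hyl hω h1r hω1 hyp', zero_add]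
  refine ⟨?_, ?_, ?_⟩
  · intro h
    rw [h] at hv1
    have h2 : Pr r y (1 : Kˣ) (0 : V) = 0 := by unfold Pr; simp
    rw [h2] at hv1
    rcases smul_eq_zero.1 hv1.symm with h3 | h3
    · exact hr0 h3
    · exact hp0 h3
  · intro t ht
    rw [smul_add, hT t ht, ← mul_smul, ← hz.2 t ht, mul_smul, hT t ht]
  · intro b hb he
    obtain ⟨l, hl⟩ := he
    have hbl := hB.linb hb
    obtain ⟨c, hc⟩ := hB.cc hy.1 hb
    have hcr : c ^ r = 1 := hB.cc_pow hy.1 hb hc
    have hb1 : y • b • p = (c : K) • b • p := by rw [hc.smul, hyp]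
    have hb2 : y • b • z • p = ((c * ω : Kˣ) : K) • b • z • p := by
      rw [hc.smul, hyzp, hbl, smul_smul, Units.val_mul]
    have hcωr : (c * ω) ^ r = 1 := by rw [mul_pow, hcr, hω, one_mul]
    have hv : b • (p + z • p) = b • p + b • z • p := smul_add _ _ _
    have e1 : Pr r y (1 : Kˣ) (b • p + b • z • p) = (l : K) • (r : K) • p := by
      rw [← hv, hl, Pr_smul hyl, hv1]
    have eω : Pr r y ω (b • p + b • z • p) = (l : K) • (r : K) • z • p := by
      rw [← hv, hl, Pr_smul hyl, hvω]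
    have hlr : (l : K) * (r : K) ≠ 0 := mul_ne_zero l.ne_zero hr0
    have hc1 : c = 1 := by
      by_contra hne
      -- the component for `1`
      have hcω : c * ω = 1 := by
        by_contra hne2
        rw [Pr_add, Pr_eig_ne hyl h1r hcr (fun h => hne h.symm) hb1,
          Pr_eig_ne hyl h1r hcωr (fun h => hne2 h.symm) hb2, add_zero, smul_smul] at e1
        rcases smul_eq_zero.1 e1.symm with h3 | h3
        · exact hlr h3
        · exact hp0 h3
      have hcω2 : c = ω := by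
        by_contra hne2
        rw [Pr_add, Pr_eig_ne hyl hω hcr (fun h => hne2 h.symm) hb1,
          Pr_eig_ne hyl hω hcωr (by rw [hcω]; exact hω1) hb2, add_zero, smul_smul] at eω
        rcases smul_eq_zero.1 eω.symm with h3 | h3
        · exact hlr h3
        · exact hzp0 h3
      rw [hcω2, ← pow_two] at hcω
      have h4 : orderOf ω ∣ 2 := orderOf_dvd_of_pow_eq_one hcω
      have h5 : orderOf ω ∣ r := orderOf_dvd_of_pow_eq_one hω
      have h6 : orderOf ω ∣ 1 := by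
        have h7 : Nat.Coprime 2 r := (Nat.coprime_primes Nat.prime_two hB.prime).2 (Ne.symm hr)
        rw [← h7]
        exact Nat.dvd_gcd h4 h5
      exact hω1 (orderOf_eq_one_iff.1 (Nat.dvd_one.1 h6))
    rw [hc1, Units.val_one, one_smul] at hb1
    rw [hc1, one_mul] at hb2
    have hb1' : y • b • p = ((1 : Kˣ) : K) • b • p := by rw [hb1, Units.val_one, one_smul]
    have hbp : b • p = (l : K) • p := by
      rw [Pr_add, Pr_eig_self hyl hb1', Pr_eig_ne hyl h1r hω hω1.symm hb2, add_zero, smul_comm (l : K) (r : K)] at e1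
      exact smul_right_injective V hr0 e1
    have hbzp : b • z • p = (l : K) • z • p := by
      rw [Pr_add, Pr_eig_self hyl hb2, Pr_eig_ne hyl hω h1r hω1 hb1', zero_add, smul_comm (l : K) (r : K)] at eω
      exact smul_right_injective V hr0 eω
    obtain ⟨t', ⟨t, ht, i, rfl⟩, e, hbe⟩ := hpg b hb ⟨l, hbp⟩
    have hyi : (y ^ i) • p = p := by
      have : y ∈ MulAction.stabilizer (GV V) p := hyp
      exact (MulAction.stabilizer (GV V) p).zpow_mem this i
    have hel : (e : K) = l := by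
      have h7 : b • p = (e : K) • p := by
        rw [hbe, mul_smul, mul_smul, hyi, hT t ht, scal_smul]
      rw [hbp] at h7
      exact (smul_left_injective K hp0 h7).symm
    -- `y^i` commutes with `z`, so it is trivial
    obtain ⟨n, hn, hyn⟩ : ∃ n < r, y ^ i = y ^ n := by
      have hrpos : 0 < r := hB.prime.pos
      refine ⟨(i % r).toNat, ?_, ?_⟩
      · have h8 := Int.emod_lt_of_pos i (by exact_mod_cast hrpos : (0 : ℤ) < r)
        have h9 := Int.emod_nonneg i (by exact_mod_cast hrpos.ne' : (r : ℤ) ≠ 0)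
        omega
      · have h9 := Int.emod_nonneg i (by exact_mod_cast hrpos.ne' : (r : ℤ) ≠ 0)
        rw [← zpow_natCast, Int.toNat_of_nonneg h9]
        conv_lhs => rw [← Int.mul_ediv_add_emod i r, zpow_add, zpow_mul, zpow_natCast, hyr, one_zpow, one_mul]
    have hn0 : n = 0 := by
      have h8 : (y ^ n) • z • p = ((ω ^ n : Kˣ) : K) • z • p := by
        rw [pow_smul_of_eig hyl hyzp, Units.val_pow_eq_pow_val]
      have h9 : b • z • p = ((e * ω ^ n : Kˣ) : K) • z • p := by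
        rw [hbe, mul_smul, mul_smul, hyn, h8, hB.linb (hTB ht), ← mul_smul t, ← hz.2 t ht, mul_smul z, hT t ht,
          scal_smul, smul_smul, Units.val_mul]
      rw [hbzp, ← hel] at h9
      have h10 := smul_left_injective K hzp0 h9
      rw [Units.val_mul] at h10
      have h11 : ((ω ^ n : Kˣ) : K) = 1 := by
        have h12 : (e : K) * 1 = (e : K) * ((ω ^ n : Kˣ) : K) := by rw [mul_one]; exact h10
        exact (mul_left_cancel₀ e.ne_zero h12).symm
      rw [Units.val_pow_eq_pow_val, (primitive hB.prime hω1 hω).pow_eq_one_iff_dvd] at h11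
      by_contra hne
      exact absurd (Nat.le_of_dvd (Nat.pos_of_ne_zero hne) h11) (not_le.2 hn)
    refine ⟨t, ht, e, ?_⟩
    rw [hbe, hyn, hn0, pow_zero, mul_one]

/-- Every flag has a generic vector (`r` odd). -/
theorem exists_gen [Nontrivial V] (hB : Heis K V r B) (hr : r ≠ 2)
    (hpow : ∀ b ∈ B, ∃ c : Kˣ, b ^ r = scal K V (c ^ r)) {ω : Kˣ} (hω1 : ω ≠ 1) (hω : ω ^ r = 1) (n : ℕ) :
    ∀ T : Subgroup (GV V), Flag K B T → Nat.card B ≤ Nat.card T + n → ∃ p, Gen K B T p := by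
  have := finite_GV V
  induction n with
  | zero =>
    intro T hT hcard
    have h1 : T = B := Subgroup.eq_of_le_of_card_ge hT.le (by simpa using hcard)
    obtain ⟨v, hv, hTv⟩ := hT.fix
    exact ⟨v, gen_of_max hB hT.le (fun b hb => ⟨b, h1 ▸ hb.1, 1, by rw [map_one, one_mul]⟩) hv hTv⟩
  | succ n ih =>
    intro T hT hcard
    by_cases hmax : ∀ b, Cen B T b → ZT K T b
    · obtain ⟨v, hv, hTv⟩ := hT.fix
      exact ⟨v, gen_of_max hB hT.le hmax hv hTv⟩
    push Not at hmax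
    obtain ⟨y0, hy0, hny0⟩ := hmax
    obtain ⟨c, hc⟩ := hpow y0 hy0.1
    obtain ⟨v, hv, hTv⟩ := hT.fix
    -- normalize `y0`
    have hy1 : Cen B T (scal K V c⁻¹ * y0) := (Cen.scal hB hT.le _).mul hy0
    have hy1r : (scal K V c⁻¹ * y0) ^ r = 1 := by
      rw [scal_mul_pow (hB.linb hy0.1), hc, ← map_mul, inv_pow, inv_mul_cancel, map_one]
    have hny1 : ¬ ZT K T (scal K V c⁻¹ * y0) := fun h => hny0 h.of_scal
    obtain ⟨ζ, hζ, p0, hp0, hTp0, hyp0⟩ := exists_scaled hB hT.le hv hTv hy1 hy1r hω1 hω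
    set y := scal K V ζ * (scal K V c⁻¹ * y0) with hydef
    have hy : Cen B T y := (Cen.scal hB hT.le _).mul hy1
    have hyr : y ^ r = 1 := by
      rw [hydef, scal_mul_pow (hB.linb hy1.1), hζ, hy1r, map_one, one_mul]
    have hny : ¬ ZT K T y := fun h => hny1 h.of_scal
    have hyT : y ∉ T := fun h => hny ⟨y, h, 1, by rw [map_one, one_mul]⟩
    have hF : Flag K B (ext T y hy.2) := Flag.ext_step hB hT hy hny hp0 hTp0 hyp0 hω1 hω
    obtain ⟨p, hp⟩ := ih _ hF (by
      have := card_lt_ext (h := hy.2) hyT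
      omega)
    obtain ⟨z, hz, hyz⟩ := exists_z hB hT hy.1 hny hω
    exact ⟨_, gen_step hB hr hω1 hω hT.le hy hyr hz hyz hp⟩

end

variable {K V : Type u} [Field K] [Finite K] [AddCommGroup V] [Finite V] [Module K V]
  {A B : Subgroup (GV V)} {r : ℕ}

theorem FlagOdd.main (S : SetB K V A B r) (hr : r ≠ 2)
    (hpow : ∀ b ∈ B, ∃ c : Kˣ, b ^ r = scal K V (c ^ r)) : ∃ x v, Good K r B x v := by
  have hnt : Nontrivial V := Finite.one_lt_card_iff_nontrivial.1 (by have := S.card; omega)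
  have hB := S.heis
  obtain ⟨b0, hb0, hns0⟩ := S.ns
  obtain ⟨ω, hω1, hω⟩ := hB.exists_root hb0 hns0
  -- a nonscalar element of order `r` with a fixed vector
  have hbot := flag_bot hB
  have hcen : ∀ {b}, b ∈ B → Cen B ⊥ b := fun {b} hb =>
    ⟨hb, fun t ht => by rw [Subgroup.mem_bot.mp ht, one_mul, mul_one]⟩
  have hzt : ∀ {b}, ZT K ⊥ b → ∃ c : Kˣ, b = scal K V c := by
    rintro b ⟨t, ht, c, hc⟩
    exact ⟨c, by rw [hc, Subgroup.mem_bot.mp ht, mul_one]⟩
  obtain ⟨c, hc⟩ := hpow b0 hb0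
  have hx1 : scal K V c⁻¹ * b0 ∈ B := B.mul_mem (hB.scal_mem _) hb0
  have hx1r : (scal K V c⁻¹ * b0) ^ r = 1 := by
    rw [scal_mul_pow (hB.linb hb0), hc, ← map_mul, inv_pow, inv_mul_cancel, map_one]
  have hnx1 : ¬ ZT K ⊥ (scal K V c⁻¹ * b0) := fun h => by
    obtain ⟨d, hd⟩ := hzt h.of_scal
    exact hns0 d hd
  obtain ⟨v, hv⟩ := exists_ne (0 : V)
  obtain ⟨ζ, hζ, p0, hp0, hTp0, hyp0⟩ := exists_scaled hB bot_le hv
    (fun t ht => by rw [Subgroup.mem_bot.mp ht, one_smul]) (hcen hx1) hx1r hω1 hω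
  set x := scal K V ζ * (scal K V c⁻¹ * b0) with hxdef
  have hx : Cen B ⊥ x := hcen (B.mul_mem (hB.scal_mem _) hx1)
  have hxr : x ^ r = 1 := by
    rw [hxdef, scal_mul_pow (hB.linb hx1), hζ, hx1r, map_one, one_mul]
  have hnx : ¬ ZT K ⊥ x := fun h => hnx1 h.of_scal
  have hF : Flag K B (ext ⊥ x hx.2) := Flag.ext_step hB hbot hx hnx hp0 hTp0 hyp0 hω1 hω
  obtain ⟨p, hp0', hpT, hpg⟩ := exists_gen hB hr hpow hω1 hω (Nat.card B) _ hF (Nat.le_add_left _ _)
  refine ⟨x, p, hx.1, hxr, fun d hd => hnx ⟨1, Subgroup.one_mem _, d, by rw [hd, mul_one]⟩, hp0', hpT x y_mem_ext,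
    ?_⟩
  intro b hb he
  obtain ⟨t', ⟨t, ht, i, rfl⟩, e, hbe⟩ := hpg b hb he
  rw [Subgroup.mem_bot] at ht
  have hrpos : 0 < r := hB.prime.pos
  refine ⟨(i % r).toNat, e, ?_⟩
  rw [hbe, ht, one_mul]
  congr 1
  have h9 := Int.emod_nonneg i (by exact_mod_cast hrpos.ne' : (r : ℤ) ≠ 0)
  rw [← zpow_natCast, Int.toNat_of_nonneg h9]
  conv_lhs => rw [← Int.mul_ediv_add_emod i r, zpow_add, zpow_mul, zpow_natCast, hxr, one_zpow, one_mul]

end Cfsg.Agent.H560.TcFlagOdd
end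

-- part: H982/TcECase
section
/-!
# S3621, lemma ECase

The exceptional configuration `EData` for `r = 2`, `|K| = 3, 5`: the group `cl2 A` is solvable, as
`A` has index at most `4` in it.
-/

set_option autoImplicit false

namespace Cfsg.Agent.H982.TcECase

open Cfsg.Agent.H412.Tc

universe u

section Arith

/-- `3 ^ m - 1` is a power of two only for `m ≤ 2`. -/
theorem le_two_of_three_pow {m a : ℕ} (h : 3 ^ m = 2 ^ a + 1) : m ≤ 2 := by
  rcases Nat.even_or_odd m with ⟨k, hk⟩ | ⟨k, hk⟩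
  · -- `(3 ^ k - 1) (3 ^ k + 1) = 2 ^ a`
    obtain ⟨t, ht⟩ : ∃ t, 3 ^ k = t + 1 := ⟨3 ^ k - 1, (Nat.succ_pred_eq_of_pos (by positivity)).symm⟩
    have h1 : t * (t + 2) = 2 ^ a := by
      have : 3 ^ m = (t + 1) * (t + 1) := by rw [hk, pow_add, ht]
      rw [this] at h
      nlinarith
    have h2 : t ∣ 2 ^ a := Dvd.intro _ h1
    have h3 : t + 2 ∣ 2 ^ a := Dvd.intro_left _ h1
    obtain ⟨b, -, hb⟩ := (Nat.dvd_prime_pow Nat.prime_two).1 h2
    obtain ⟨c, -, hc⟩ := (Nat.dvd_prime_pow Nat.prime_two).1 h3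
    have hbc : 2 ^ c = 2 ^ b + 2 := by rw [← hb, ← hc]
    have hb1 : b ≤ 1 := by
      by_contra hcon
      push Not at hcon
      have h4 : 4 ∣ 2 ^ b := by
        have := pow_dvd_pow 2 (show 2 ≤ b by omega)
        simpa using this
      have h50 : 0 < 2 ^ b := by positivity
      have h5 : 2 < 2 ^ c := by omega
      have h6 : 1 < c := by
        by_contra hc1
        push Not at hc1
        have : 2 ^ c ≤ 2 ^ 1 := Nat.pow_le_pow_right (by norm_num) hc1
        omega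
      have h7 : 4 ∣ 2 ^ c := by
        have := pow_dvd_pow 2 (show 2 ≤ c by omega)
        simpa using this
      omega
    have ht2 : 3 ^ k ≤ 3 := by
      rw [ht, hb]
      have : 2 ^ b ≤ 2 ^ 1 := Nat.pow_le_pow_right (by norm_num) hb1
      omega
    have hk1 : k ≤ 1 := by
      by_contra hcon
      push Not at hcon
      have : 3 ^ 2 ≤ 3 ^ k := Nat.pow_le_pow_right (by norm_num) hcon
      omega
    omega
  · -- `3 ^ m = 3 mod 8`
    have h1 : 3 ^ m % 8 = 3 := by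
      rw [hk, pow_add, pow_mul, Nat.mul_mod, Nat.pow_mod]
      norm_num
    have h2 : a ≤ 1 := by
      by_contra hcon
      push Not at hcon
      rcases Nat.lt_or_ge a 3 with h3 | h3
      · have : a = 2 := by omega
        subst this
        omega
      · have h4 : 8 ∣ 2 ^ a := by
          have := pow_dvd_pow 2 h3
          simpa using this
        omega
    have h3 : 3 ^ m ≤ 3 := by
      rw [h]
      have : 2 ^ a ≤ 2 ^ 1 := Nat.pow_le_pow_right (by norm_num) h2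
      omega
    by_contra hcon
    push Not at hcon
    have : 3 ^ 2 ≤ 3 ^ m := Nat.pow_le_pow_right (by norm_num) (by omega)
    omega

/-- `5 ^ m - 1` is a power of two only for `m ≤ 1`. -/
theorem le_two_of_five_pow {m a : ℕ} (h : 5 ^ m = 2 ^ a + 1) : m ≤ 2 := by
  rcases Nat.even_or_odd m with ⟨k, hk⟩ | ⟨k, hk⟩
  · obtain ⟨t, ht⟩ : ∃ t, 5 ^ k = t + 1 := ⟨5 ^ k - 1, (Nat.succ_pred_eq_of_pos (by positivity)).symm⟩
    have h1 : t * (t + 2) = 2 ^ a := by
      have : 5 ^ m = (t + 1) * (t + 1) := by rw [hk, pow_add, ht]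
      rw [this] at h
      nlinarith
    have h3 : t + 2 ∣ 2 ^ a := Dvd.intro_left _ h1
    obtain ⟨c, -, hc⟩ := (Nat.dvd_prime_pow Nat.prime_two).1 h3
    have h4 : 5 ^ k % 4 = 1 := by
      rw [Nat.pow_mod]
      norm_num
    have h5 : 2 ^ c % 4 = 2 := by omega
    have h6 : c ≤ 1 := by
      by_contra hcon
      push Not at hcon
      have h7 : 4 ∣ 2 ^ c := by
        have := pow_dvd_pow 2 (show 2 ≤ c by omega)
        simpa using this
      omega
    have h7 : 5 ^ k ≤ 1 := by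
      have : 2 ^ c ≤ 2 ^ 1 := Nat.pow_le_pow_right (by norm_num) h6
      omega
    have h8 : k = 0 := by
      by_contra hcon
      have : 5 ^ 1 ≤ 5 ^ k := Nat.pow_le_pow_right (by norm_num) (by omega)
      omega
    omega
  · have h1 : 5 ^ m % 8 = 5 := by
      rw [hk, pow_add, pow_mul, Nat.mul_mod, Nat.pow_mod]
      norm_num
    have h2 : a ≤ 2 := by
      by_contra hcon
      push Not at hcon
      have h4 : 8 ∣ 2 ^ a := by
        have := pow_dvd_pow 2 (show 3 ≤ a by omega)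
        simpa using this
      omega
    have h3 : 5 ^ m ≤ 5 := by
      rw [h]
      have : 2 ^ a ≤ 2 ^ 2 := Nat.pow_le_pow_right (by norm_num) h2
      omega
    by_contra hcon
    push Not at hcon
    have : 5 ^ 2 ≤ 5 ^ m := Nat.pow_le_pow_right (by norm_num) (by omega)
    omega

end Arith

section Group

/-- A group with a solvable subgroup of index at most `4` is solvable. -/
theorem solvable_of_index {G : Type*} [Group G] [Finite G] {A : Subgroup G}
    (hA : Group.IsSolvable A) (hi : A.index ≤ 4) : Group.IsSolvable G := by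
  classical
  have h0 : 0 < A.index := Nat.pos_of_ne_zero Subgroup.index_ne_zero_of_finite
  have hperm : Group.IsSolvable (Equiv.Perm (G ⧸ A)) := by
    have h1 : Nat.card (Equiv.Perm (G ⧸ A)) = (A.index).factorial := by
      rw [Nat.card_perm]; rfl
    have h2 : ∃ a b : ℕ, Nat.card (Equiv.Perm (G ⧸ A)) = 2 ^ a * 3 ^ b := by
      rw [h1]
      set m := A.index
      interval_cases m
      · exact ⟨0, 0, rfl⟩
      · exact ⟨1, 0, rfl⟩
      · exact ⟨1, 1, rfl⟩
      · exact ⟨3, 1, rfl⟩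
    obtain ⟨a, b, hab⟩ := h2
    exact Cfsg.Agent.S0144.result 2 3 a b Nat.prime_two Nat.prime_three hab
  let f : G →* Equiv.Perm (G ⧸ A) := MulAction.toPermHom G (G ⧸ A)
  have hker : f.ker ≤ A := by
    have : f.ker = A.normalCore := (Subgroup.normalCore_eq_ker A).symm
    rw [this]
    exact Subgroup.normalCore_le A
  have hk : Group.IsSolvable f.ker := solvable_of_le hker hA
  have hq : Group.IsSolvable (G ⧸ f.ker) :=
    Group.isSolvable_of_isSolvable_injective (QuotientGroup.kerLift_injective f)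
  exact (Group.isSolvable_iff_subgroup_quotient f.ker).2 ⟨hk, hq⟩

end Group

section Cf

variable {V : Type*} [AddCommGroup V]

/-- The configuration, in terms of the action on `V`. -/
structure Cf (B : Subgroup (GV V)) (x x' y y' : GV V) (p p' : V) : Prop where
  two : ∀ v : V, v + v = 0 → v = 0
  sgn : ∀ a ∈ B, ∀ b ∈ B, (∀ v : V, a • b • v = b • a • v) ∨ (∀ v : V, a • b • v = -(b • a • v))
  hx : x ∈ B
  hx' : x' ∈ B
  hy : y ∈ B
  hy' : y' ∈ B
  hp : p ≠ 0
  xp : x • p = p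
  x'p : x' • p = p
  xp' : x • p' = p'
  x'p' : x' • p' = p'
  xx : ∀ v : V, x • x • v = v
  x'x' : ∀ v : V, x' • x' • v = v
  xx' : ∀ v : V, x' • x • v = x • x' • v
  xy : ∀ v : V, x • y • v = -(y • x • v)
  x'y : ∀ v : V, x' • y • v = y • x' • v
  x'y' : ∀ v : V, x' • y' • v = -(y' • x' • v)
  xy' : ∀ v : V, x • y' • v = y' • x • v
  stab : ∀ b ∈ B, b • p = p → b = 1 ∨ b = x ∨ b = x' ∨ b = x * x'
  gen : ∀ f : V, x • f = f → x' • f = f → ∃ a b : ℤ, f = a • p + b • p'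

variable {B : Subgroup (GV V)} {x x' y y' : GV V} {p p' : V}

namespace Cf

variable (C : Cf B x x' y y' p p')
include C

theorem yp_ne : y • p ≠ 0 := fun h => C.hp ((smul_eq_zero_iff_eq y).1 h)

theorem y'p_ne : y' • p ≠ 0 := fun h => C.hp ((smul_eq_zero_iff_eq y').1 h)

theorem x_ne : x ≠ x' := by
  intro h
  have h1 := C.xy p
  have h2 := C.x'y p
  rw [← h, h1, C.xp] at h2
  exact C.yp_ne (C.two _ (neg_eq_iff_add_eq_zero.1 h2))

/-- An element trivial on the four eigenspaces is trivial. -/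
theorem eq_one {m : GV V} (h0 : ∀ f : V, x • f = f → x' • f = f → m • f = f)
    (h1 : ∀ f : V, x • f = f → x' • f = f → m • y • f = y • f)
    (h2 : ∀ f : V, x • f = f → x' • f = f → m • y' • f = y' • f)
    (h3 : ∀ f : V, x • f = f → x' • f = f → m • y • y' • f = y • y' • f) : m = 1 := by
  have iy : ∀ v : V, x • y⁻¹ • v = -(y⁻¹ • x • v) := by
    intro v
    have := C.xy (y⁻¹ • v)
    rw [smul_inv_smul] at this
    rw [this, smul_neg, inv_smul_smul, neg_neg]
  have iy' : ∀ v : V, x' • y⁻¹ • v = y⁻¹ • x' • v := by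
    intro v
    have := C.x'y (y⁻¹ • v)
    rw [smul_inv_smul] at this
    rw [this, inv_smul_smul]
  have i'y : ∀ v : V, x • y'⁻¹ • v = y'⁻¹ • x • v := by
    intro v
    have := C.xy' (y'⁻¹ • v)
    rw [smul_inv_smul] at this
    rw [this, inv_smul_smul]
  have i'y' : ∀ v : V, x' • y'⁻¹ • v = -(y'⁻¹ • x' • v) := by
    intro v
    have := C.x'y' (y'⁻¹ • v)
    rw [smul_inv_smul] at this
    rw [this, smul_neg, inv_smul_smul, neg_neg]
  apply GV_ext
  intro v
  rw [one_smul]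
  -- the four components
  have e0 : m • (v + x • v + x' • v + x • x' • v) = v + x • v + x' • v + x • x' • v := by
    apply h0
    · simp only [smul_add, C.xx]; abel
    · simp only [smul_add, C.xx', C.x'x']; abel
  have e1 : m • (v - x • v + x' • v - x • x' • v) = v - x • v + x' • v - x • x' • v := by
    have := h1 (y⁻¹ • (v - x • v + x' • v - x • x' • v)) ?_ ?_
    · rwa [smul_inv_smul] at this
    · rw [iy, ← smul_neg]
      congr 1
      simp only [smul_add, smul_sub, C.xx]; abel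
    · rw [iy']
      congr 1
      simp only [smul_add, smul_sub, C.xx', C.x'x']; abel
  have e2 : m • (v + x • v - x' • v - x • x' • v) = v + x • v - x' • v - x • x' • v := by
    have := h2 (y'⁻¹ • (v + x • v - x' • v - x • x' • v)) ?_ ?_
    · rwa [smul_inv_smul] at this
    · rw [i'y]
      congr 1
      simp only [smul_add, smul_sub, C.xx]; abel
    · rw [i'y', ← smul_neg]
      congr 1
      simp only [smul_add, smul_sub, C.xx', C.x'x']; abel
  have e3 : m • (v - x • v - x' • v + x • x' • v) = v - x • v - x' • v + x • x' • v := by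
    have := h3 (y'⁻¹ • y⁻¹ • (v - x • v - x' • v + x • x' • v)) ?_ ?_
    · rwa [smul_inv_smul, smul_inv_smul] at this
    · rw [i'y, iy, ← smul_neg]
      congr 2
      simp only [smul_add, smul_sub, C.xx]; abel
    · rw [i'y', iy', ← smul_neg, ← smul_neg]
      congr 2
      simp only [smul_add, smul_sub, C.xx', C.x'x']; abel
  have e4 : m • (v + v + (v + v)) = v + v + (v + v) := by
    have h4 : v + v + (v + v) = (v + x • v + x' • v + x • x' • v) +
        (v - x • v + x' • v - x • x' • v) + (v + x • v - x' • v - x • x' • v) +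
        (v - x • v - x' • v + x • x' • v) := by abel
    rw [h4, smul_add, smul_add, smul_add, e0, e1, e2, e3]
  rw [← sub_eq_zero]
  apply C.two
  apply C.two
  rw [smul_add, smul_add] at e4
  have e5 := sub_eq_zero.2 e4
  rw [← e5]; abel

omit C in
theorem eq_neg_cancel (htwo : ∀ v : V, v + v = 0 → v = 0) {v : V} (h : v = -v) : v = 0 :=
  htwo v (by nth_rewrite 1 [h]; exact neg_add_cancel v)

theorem x_ne_one : x ≠ 1 := by
  intro h
  have h1 := C.xy p
  rw [h, one_smul, one_smul] at h1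
  exact C.yp_ne (eq_neg_cancel C.two h1)

theorem x'_ne_one : x' ≠ 1 := by
  intro h
  have h1 := C.x'y' p
  rw [h, one_smul, one_smul] at h1
  exact C.y'p_ne (eq_neg_cancel C.two h1)

/-- An element of `B` fixing `p` fixes every vector fixed by `x` and `x'`. -/
theorem fix_of_fix {b : GV V} (hb : b ∈ B) (hbp : b • p = p) {f : V} (h1 : x • f = f)
    (h2 : x' • f = f) : b • f = f := by
  rcases C.stab b hb hbp with rfl | rfl | rfl | rfl
  · exact one_smul _ _
  · exact h1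
  · exact h2
  · rw [mul_smul, h2, h1]

variable {k : GV V} (hk : ∀ b ∈ B, k * b * k⁻¹ ∈ B) (hkp : k • p = p)
include hk hkp

theorem conj_cases {b : GV V} (hb : b ∈ B) (hbp : b • p = p) (hb1 : b ≠ 1) :
    k * b * k⁻¹ = x ∨ k * b * k⁻¹ = x' ∨ k * b * k⁻¹ = x * x' := by
  have h1 : k⁻¹ • p = p := by rw [inv_smul_eq_iff, hkp]
  rcases C.stab _ (hk b hb) (by rw [mul_smul, mul_smul, h1, hbp, hkp]) with h | h
  · exact absurd (by rwa [mul_inv_eq_one, mul_eq_left] at h) hb1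
  · exact h

/-- `k` permutes `x`, `x'`, `x x'`. -/
theorem pairs :
    (k * x * k⁻¹ = x ∧ k * x' * k⁻¹ = x') ∨ (k * x * k⁻¹ = x ∧ k * x' * k⁻¹ = x * x') ∨
    (k * x * k⁻¹ = x' ∧ k * x' * k⁻¹ = x) ∨ (k * x * k⁻¹ = x' ∧ k * x' * k⁻¹ = x * x') ∨
    (k * x * k⁻¹ = x * x' ∧ k * x' * k⁻¹ = x) ∨ (k * x * k⁻¹ = x * x' ∧ k * x' * k⁻¹ = x') := by
  have hne : k * x * k⁻¹ ≠ k * x' * k⁻¹ := fun h => C.x_ne (by simpa using h)
  have h1 := C.conj_cases hk hkp C.hx C.xp (C.x_ne_one)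
  have h2 := C.conj_cases hk hkp C.hx' C.x'p (C.x'_ne_one)
  rcases h1 with h1 | h1 | h1 <;> rcases h2 with h2 | h2 | h2
  all_goals first
    | exact absurd (h1.trans h2.symm) hne
    | tauto

omit C hk hkp in
theorem smul_conj {k b : GV V} (v : V) : k • b • v = (k * b * k⁻¹) • k • v := by
  rw [mul_smul, mul_smul, inv_smul_smul]

theorem sum_smul (v : V) : k • (v + x • v + x' • v + x • x' • v) =
    k • v + x • k • v + x' • k • v + x • x' • k • v := by
  rw [smul_add, smul_add, smul_add, smul_conj (b := x) v, smul_conj (b := x') v,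
    smul_conj (b := x) (x' • v), smul_conj (b := x') v]
  rcases C.pairs hk hkp with ⟨h1, h2⟩ | ⟨h1, h2⟩ | ⟨h1, h2⟩ | ⟨h1, h2⟩ | ⟨h1, h2⟩ | ⟨h1, h2⟩ <;>
    rw [h1, h2] <;> simp only [mul_smul, C.xx, C.xx', C.x'x'] <;> abel

variable (hkw : k • (p' + y • p + y' • p) = p' + y • p + y' • p)
include hkw

theorem smul_p' : k • p' = p' := by
  have h1 := C.sum_smul hk hkp (p' + y • p + y' • p)
  rw [hkw] at h1
  simp only [smul_add, C.xp', C.x'p', C.xy, C.x'y, C.xy', C.x'y', C.xp, C.x'p, smul_neg] at h1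
  have h2 : k • p' + k • p' + (k • p' + k • p') = p' + p' + (p' + p') := by
    have h3 : p' + y • p + y' • p + (p' + -(y • p) + y' • p) + (p' + y • p + -(y' • p)) +
        (p' + -(y • p) + -(y' • p)) = p' + p' + (p' + p') := by abel
    have h4 := h1
    rw [h3] at h4
    rw [← h4]
    abel
  rw [← sub_eq_zero]
  apply C.two
  apply C.two
  have e5 := sub_eq_zero.2 h2
  rw [← e5]; abel

theorem smul_u : k • (y • p + y' • p) = y • p + y' • p := by
  have h1 := C.smul_p' hk hkp hkw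
  have h2 := hkw
  rw [add_assoc, smul_add, h1] at h2
  exact add_left_cancel h2

/-- Either `k` centralizes `x`, `x'`, or interchanges them. -/
theorem two_cases :
    (k * x * k⁻¹ = x ∧ k • y • p = y • p ∧ k • y' • p = y' • p) ∨
    (k * x * k⁻¹ = x' ∧ k • y • p = y' • p ∧ k • y' • p = y • p) := by
  have hu := C.smul_u hk hkp hkw
  have h0 : x • x' • (y • p + y' • p) = -(y • p + y' • p) := by
    simp only [smul_add, C.xy, C.x'y, C.xy', C.x'y', C.xp, C.x'p, smul_neg]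
    abel
  have h00 : (k * x * k⁻¹) • (k * x' * k⁻¹) • (y • p + y' • p) = -(y • p + y' • p) := by
    have h3 : (k * x' * k⁻¹) • (y • p + y' • p) = k • x' • (y • p + y' • p) := by
      rw [smul_conj, hu]
    rw [h3, ← smul_conj, h0, smul_neg, hu]
  have hX : x' • (y • p + y' • p) ≠ -(y • p + y' • p) := by
    intro h
    simp only [smul_add, C.x'y, C.x'y', C.x'p, neg_add] at h
    exact C.yp_ne (eq_neg_cancel C.two (add_right_cancel h))
  have hX' : x • (y • p + y' • p) ≠ -(y • p + y' • p) := by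
    intro h
    simp only [smul_add, C.xy, C.xy', C.xp, neg_add] at h
    exact C.y'p_ne (eq_neg_cancel C.two (add_left_cancel h))
  have hxu : x • (y • p + y' • p) = -(y • p) + y' • p := by
    simp only [smul_add, C.xy, C.xy', C.xp]
  have hx'u : x' • (y • p + y' • p) = y • p + -(y' • p) := by
    simp only [smul_add, C.x'y, C.x'y', C.x'p]
  have hkx : k • x • (y • p + y' • p) = (k * x * k⁻¹) • (y • p + y' • p) := by
    rw [smul_conj, hu]
  rcases C.pairs hk hkp with ⟨h1, h2⟩ | ⟨h1, h2⟩ | ⟨h1, h2⟩ | ⟨h1, h2⟩ | ⟨h1, h2⟩ | ⟨h1, h2⟩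
  · -- `k` commutes with `x`
    left
    rw [h1, hxu, smul_add, smul_neg] at hkx
    rw [smul_add] at hu
    have h3 : k • y' • p = y' • p := by
      rw [← sub_eq_zero]
      apply C.two
      have e1 := congrArg₂ (· + ·) hkx hu
      have e2 := sub_eq_zero.2 e1
      rw [← e2]; abel
    refine ⟨h1, ?_, h3⟩
    rw [h3] at hu
    exact add_right_cancel hu
  · rw [h1, h2] at h00
    simp only [mul_smul, C.xx] at h00
    exact absurd h00 hX
  · right
    rw [h1, hxu, hx'u, smul_add, smul_neg] at hkx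
    rw [smul_add] at hu
    have h3 : k • y' • p = y • p := by
      rw [← sub_eq_zero]
      apply C.two
      have e1 := congrArg₂ (· + ·) hkx hu
      have e2 := sub_eq_zero.2 e1
      rw [← e2]; abel
    refine ⟨h1, ?_, h3⟩
    rw [h3, add_comm (y • p) (y' • p)] at hu
    exact add_right_cancel hu
  · rw [h1, h2] at h00
    simp only [mul_smul, C.xx', C.x'x'] at h00
    exact absurd h00 hX'
  · rw [h1, h2] at h00
    simp only [mul_smul, C.xx', C.xx] at h00
    exact absurd h00 hX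
  · rw [h1, h2] at h00
    simp only [mul_smul, C.x'x'] at h00
    exact absurd h00 hX'

theorem sign_cases : k • y • y' • p = y • y' • p ∨ k • y • y' • p = -(y • y' • p) := by
  have hkp' : k⁻¹ • p = p := by rw [inv_smul_eq_iff, hkp]
  have hj : ∀ j : GV V, j ∈ B → j • p = p → (j • y • p = y • p ∨ j • y • p = -(y • p)) ∧
      (j • y' • p = y' • p ∨ j • y' • p = -(y' • p)) := by
    intro j hj hjp
    rcases C.stab j hj hjp with rfl | rfl | rfl | rfl
    · exact ⟨Or.inl (one_smul _ _), Or.inl (one_smul _ _)⟩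
    · rw [C.xy, C.xy', C.xp]; exact ⟨Or.inr rfl, Or.inl rfl⟩
    · rw [C.x'y, C.x'y', C.x'p]; exact ⟨Or.inl rfl, Or.inr rfl⟩
    · rw [mul_smul, mul_smul, C.x'y, C.x'y', C.x'p, smul_neg, C.xy, C.xy', C.xp]
      exact ⟨Or.inr rfl, Or.inr rfl⟩
  have hyB := hk y C.hy
  rcases C.two_cases hk hkp hkw with ⟨-, h1, h2⟩ | ⟨-, h1, h2⟩
  · -- `k y k⁻¹ = y j`
    obtain ⟨j, hjB, hjp, hj1⟩ : ∃ j ∈ B, j • p = p ∧ k * y * k⁻¹ = y * j := by
      refine ⟨y⁻¹ * (k * y * k⁻¹), B.mul_mem (B.inv_mem C.hy) hyB, ?_, by group⟩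
      rw [mul_smul, mul_smul, mul_smul, hkp', h1, inv_smul_smul]
    rw [smul_conj, h2, hj1, mul_smul]
    rcases (hj j hjB hjp).2 with h3 | h3 <;> rw [h3]
    · left; rfl
    · right; rw [smul_neg]
  · obtain ⟨j, hjB, hjp, hj1⟩ : ∃ j ∈ B, j • p = p ∧ k * y * k⁻¹ = y' * j := by
      refine ⟨y'⁻¹ * (k * y * k⁻¹), B.mul_mem (B.inv_mem C.hy') hyB, ?_, by group⟩
      rw [mul_smul, mul_smul, mul_smul, hkp', h1, inv_smul_smul]
    rw [smul_conj, h2, hj1, mul_smul]
    rcases (hj j hjB hjp).1 with h3 | h3 <;> rw [h3] <;>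
      rcases C.sgn y' C.hy' y C.hy with h4 | h4
    · left; rw [h4]
    · right; rw [h4]
    · right; rw [smul_neg, h4]
    · left; rw [smul_neg, h4, neg_neg]

/-- `k` is determined by two signs. -/
theorem eq_one_of (hx1 : k * x * k⁻¹ = x) (hyy : k • y • y' • p = y • y' • p) : k = 1 := by
  have hkp' : k⁻¹ • p = p := by rw [inv_smul_eq_iff, hkp]
  have h12 : k • y • p = y • p ∧ k • y' • p = y' • p := by
    rcases C.two_cases hk hkp hkw with ⟨-, h1, h2⟩ | ⟨h0, -, -⟩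
    · exact ⟨h1, h2⟩
    · exact absurd (hx1.symm.trans h0) C.x_ne
  have hF : ∀ f : V, x • f = f → x' • f = f → k • f = f := by
    intro f h1 h2
    obtain ⟨a, b, rfl⟩ := C.gen f h1 h2
    have h3 : ∀ (n : ℤ) (v : V), k • (n • v) = n • (k • v) := fun n v =>
      map_zsmul (DistribSMul.toAddMonoidHom V k) n v
    rw [smul_add, h3, h3, hkp, C.smul_p' hk hkp hkw]
  have hG : ∀ g ∈ B, k • g • p = g • p → ∀ f : V, x • f = f → x' • f = f →
      k • g • f = g • f := by
    intro g hg hgp f h1 h2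
    have h3 : (g⁻¹ * (k * g * k⁻¹)) • f = f := by
      apply C.fix_of_fix (B.mul_mem (B.inv_mem hg) (hk g hg)) _ h1 h2
      rw [mul_smul, mul_smul, mul_smul, hkp', hgp, inv_smul_smul]
    rw [mul_smul, inv_smul_eq_iff] at h3
    rw [smul_conj, hF f h1 h2, h3]
  refine C.eq_one hF (hG y C.hy h12.1) (hG y' C.hy' h12.2) ?_
  have h3 := hG (y * y') (B.mul_mem C.hy C.hy') (by rw [mul_smul]; exact hyy)
  intro f h1 h2
  have h4 := h3 f h1 h2
  rwa [mul_smul] at h4

end Cf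

end Cf

section Main

variable {K V : Type u} [Field K] [Finite K] [AddCommGroup V] [Finite V] [Module K V]
  {A B : Subgroup (GV V)}

omit [Finite K] [Finite V] in
theorem int_of (hK : Nat.card K = 3 ∨ Nat.card K = 5) (c : K) :
    ∃ n : ℤ, ∀ w : V, c • w = n • w := by
  have hp : (Nat.card K).Prime := by rcases hK with h | h <;> rw [h] <;> norm_num
  have : Fact (Nat.card K).Prime := ⟨hp⟩
  have hc : c ∈ AddSubgroup.zmultiples (1 : K) :=
    mem_zmultiples_of_prime_card rfl one_ne_zero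
  obtain ⟨n, hn⟩ := AddSubgroup.mem_zmultiples_iff.1 hc
  refine ⟨n, fun w => ?_⟩
  rw [← hn, smul_assoc, one_smul]

omit [Finite K] [Finite V] in
/-- The fixed space of `x` and `x'`. -/
def fixS (K : Type u) {V : Type u} [Field K] [AddCommGroup V] [Module K V] {x x' : GV V}
    (hx : Lin K x) (hx' : Lin K x') : Submodule K V where
  carrier := {v | x • v = v ∧ x' • v = v}
  add_mem' := by
    rintro a b ⟨h1, h2⟩ ⟨h3, h4⟩
    exact ⟨by rw [smul_add, h1, h3], by rw [smul_add, h2, h4]⟩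
  zero_mem' := ⟨smul_zero _, smul_zero _⟩
  smul_mem' := by
    rintro c v ⟨h1, h2⟩
    exact ⟨by rw [hx, h1], by rw [hx', h2]⟩

omit [Finite V] in
/-- `B` is a `2`-group. -/
theorem isPGroup_B (hB : Heis K V 2 B) (hK : Nat.card K = 3 ∨ Nat.card K = 5) :
    IsPGroup 2 B := by
  rintro ⟨b, hb⟩
  refine ⟨3, ?_⟩
  obtain ⟨c, hc⟩ := hB.pow b hb
  have hc4 : c ^ 4 = 1 := by
    have := Fintype.ofFinite K
    have h1 : (c : K) ^ (Fintype.card K - 1) = 1 := FiniteField.pow_card_sub_one_eq_one _ c.ne_zero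
    rw [← Nat.card_eq_fintype_card] at h1
    apply Units.ext
    rw [Units.val_pow_eq_pow_val, Units.val_one]
    rcases hK with h | h
    · rw [h] at h1
      have : (c : K) ^ 4 = ((c : K) ^ (3 - 1)) ^ 2 := by rw [← pow_mul]
      rw [this, h1, one_pow]
    · rw [h] at h1
      exact h1
  apply Subtype.ext
  show b ^ (2 ^ 3) = 1
  have : b ^ (2 ^ 3) = (b ^ 2) ^ 4 := by rw [← pow_mul]; norm_num
  rw [this, hc, ← map_pow, hc4, map_one]

theorem finite_GV (V : Type*) [AddCommGroup V] [Finite V] : Finite (GV V) := by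
  have h1 : Finite (AddMonoid.End V) :=
    Finite.of_injective (fun f : AddMonoid.End V => (f : V → V)) DFunLike.coe_injective
  exact Finite.of_injective (fun u : GV V => (u : AddMonoid.End V)) Units.val_injective

/-- The space fixed by `x` and `x'` is generated by two elements. -/
theorem exists_gen (hB : Heis K V 2 B) (hK : Nat.card K = 3 ∨ Nat.card K = 5) {x x' : GV V}
    {p : V} (hx : x ∈ B) (hx' : x' ∈ B) (hp : p ≠ 0) (hxp : x • p = p) (hx'p : x' • p = p)
    (horb : ∀ f : V, f ≠ 0 → x • f = f → x' • f = f → ∃ b ∈ B, f = b • p) :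
    ∃ p' : V, x • p' = p' ∧ x' • p' = p' ∧
      ∀ f : V, x • f = f → x' • f = f → ∃ a b : ℤ, f = a • p + b • p' := by
  classical
  have hV : Nontrivial V := ⟨⟨p, 0, hp⟩⟩
  let F : Submodule K V := fixS K (hB.linb hx) (hB.linb hx')
  have hmem : ∀ v, v ∈ F ↔ x • v = v ∧ x' • v = v := fun v => Iff.rfl
  -- the centralizer of `x`, `x'` in `B`
  let C : Subgroup (GV V) := B ⊓ Subgroup.centralizer {x, x'}
  have hC : IsPGroup 2 C := (isPGroup_B hB hK).to_le inf_le_left
  have horbit : MulAction.orbit C p = {v | v ∈ F ∧ v ≠ 0} := by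
    ext v
    constructor
    · rintro ⟨⟨g, hg⟩, rfl⟩
      have h1 := (Subgroup.mem_inf.1 hg).2
      rw [Subgroup.mem_centralizer_iff] at h1
      have h2 : x * g = g * x := h1 x (by simp)
      have h3 : x' * g = g * x' := h1 x' (by simp)
      refine ⟨⟨?_, ?_⟩, ?_⟩
      · show x • g • p = g • p
        rw [← mul_smul, h2, mul_smul, hxp]
      · show x' • g • p = g • p
        rw [← mul_smul, h3, mul_smul, hx'p]
      · show g • p ≠ 0
        exact fun h => hp ((smul_eq_zero_iff_eq g).1 h)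
    · rintro ⟨⟨h1, h2⟩, h3⟩
      obtain ⟨b, hb, rfl⟩ := horb v h3 h1 h2
      have key : ∀ t ∈ B, t • p = p → t • b • p = b • p → t * b = b * t := by
        intro t ht htp htb
        obtain ⟨c, hc⟩ := hB.cc ht hb
        have h4 := hc.smul p
        rw [htp, htb] at h4
        have h5 : (1 : K) • (b • p) = (c : K) • (b • p) := by rw [one_smul]; exact h4
        have h6 := smul_left_injective K h3 h5
        have h7 : c = 1 := Units.ext h6.symm
        rw [h7] at hc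
        exact cc_one_iff.1 hc
      refine ⟨⟨b, Subgroup.mem_inf.2 ⟨hb, ?_⟩⟩, rfl⟩
      rw [Subgroup.mem_centralizer_iff]
      intro t ht
      rcases ht with rfl | ht
      · exact key _ hx hxp h1
      · rw [Set.mem_singleton_iff] at ht
        subst ht
        exact key _ hx' hx'p h2
  obtain ⟨a, ha⟩ := hC.card_orbit p
  have hcard : Nat.card F = 2 ^ a + 1 := by
    rw [← ha, horbit]
    have h1 : ({v | v ∈ F ∧ v ≠ 0} : Set V) = (F : Set V) \ {0} := by
      ext v; simp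
    rw [h1, Nat.card_coe_set_eq]
    have h2 : Nat.card F = (F : Set V).ncard := by
      rw [← Nat.card_coe_set_eq]; rfl
    rw [h2]
    have h3 : (0 : V) ∈ (F : Set V) := F.zero_mem
    exact (Set.ncard_sdiff_singleton_add_one h3 (Set.toFinite _)).symm
  have hfin : Module.finrank K F ≤ 2 := by
    rw [Module.natCard_eq_pow_finrank (K := K) (V := F)] at hcard
    rcases hK with h | h
    · rw [h] at hcard
      exact le_two_of_three_pow hcard
    · rw [h] at hcard
      exact le_two_of_five_pow hcard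
  by_cases hall : ∀ f ∈ F, ∃ c : K, f = c • p
  · refine ⟨p, hxp, hx'p, fun f h1 h2 => ?_⟩
    obtain ⟨c, hc⟩ := hall f ⟨h1, h2⟩
    obtain ⟨n, hn⟩ := int_of (V := V) hK c
    exact ⟨n, 0, by rw [hc, hn, zero_smul, add_zero]⟩
  · push Not at hall
    obtain ⟨f0, hf0, hne⟩ := hall
    refine ⟨f0, hf0.1, hf0.2, fun f h1 h2 => ?_⟩
    have hli : LinearIndependent K ![(⟨p, hxp, hx'p⟩ : F), ⟨f0, hf0⟩] := by
      rw [LinearIndependent.pair_iff]
      intro s t hst
      have h3 : s • p + t • f0 = 0 := congrArg Subtype.val hst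
      have ht : t = 0 := by
        by_contra ht
        apply hne (-(t⁻¹ * s))
        have h4 : t⁻¹ • (s • p + t • f0) = 0 := by rw [h3, smul_zero]
        rw [smul_add, smul_smul, smul_smul, inv_mul_cancel₀ ht, one_smul] at h4
        rw [neg_smul]
        exact eq_neg_of_add_eq_zero_right h4
      subst ht
      rw [zero_smul, add_zero] at h3
      exact ⟨(smul_eq_zero.1 h3).resolve_right hp, rfl⟩
    have h3 : Module.finrank K F = 2 := by
      refine le_antisymm hfin ?_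
      have := hli.fintype_card_le_finrank
      simpa using this
    have h4 := hli.span_eq_top_of_card_eq_finrank (by simp [h3])
    have h5 : (⟨f, h1, h2⟩ : F) ∈ Submodule.span K (Set.range ![(⟨p, hxp, hx'p⟩ : F), ⟨f0, hf0⟩]) := by
      rw [h4]; trivial
    rw [Matrix.range_cons, Matrix.range_cons, Matrix.range_empty, Set.union_empty,
      Set.singleton_union, Submodule.mem_span_pair] at h5
    obtain ⟨s, t, hst⟩ := h5
    have h6 : s • p + t • f0 = f := congrArg Subtype.val hst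
    obtain ⟨m, hm⟩ := int_of (V := V) hK s
    obtain ⟨n, hn⟩ := int_of (V := V) hK t
    exact ⟨m, n, by rw [← h6, hm, hn]⟩

/-- The configuration from `EData`. -/
theorem exists_cf (S : SetB K V A B 2) (hK : Nat.card K = 3 ∨ Nat.card K = 5)
    (hE : EData K B) : ∃ (x x' y y' : GV V) (p p' : V), Cf B x x' y y' p p' := by
  obtain ⟨x, hx, x', hx', y, hy, y', hy', p, hp, hxp, hx'p, hx2, hx'2, hxx', hxy, hx'y, hx'y',
    hxy', hall⟩ := hE
  have hB := S.heis
  have hV : Nontrivial V := ⟨⟨p, 0, hp⟩⟩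
  obtain ⟨p', h1, h2, hgen⟩ := exists_gen hB hK hx hx' hp hxp hx'p
    (fun f h1 h2 h3 => (hall f h1 h2 h3).2)
  obtain ⟨b0, hb0, hns⟩ := S.ns
  obtain ⟨ω, hω1, hω2⟩ := hB.exists_root hb0 hns
  have h20 : (2 : K) ≠ 0 := by
    have := prime_ne_zero hB.prime hω1 hω2
    simpa using this
  have htwo : ∀ v : V, v + v = 0 → v = 0 := by
    intro v hv
    rw [← two_smul K] at hv
    exact (smul_eq_zero.1 hv).resolve_left h20
  have hneg : ∀ v : V, ((-1 : Kˣ) : K) • v = -v := by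
    intro v
    rw [Units.val_neg, Units.val_one, neg_smul, one_smul]
  have hcomm : ∀ {a b : GV V}, a * b = b * a → ∀ v : V, a • b • v = b • a • v := by
    intro a b h v
    rw [← mul_smul, h, mul_smul]
  refine ⟨x, x', y, y', p, p', htwo, ?_, hx, hx', hy, hy', hp, hxp, hx'p, h1, h2, ?_, ?_,
    hcomm hxx'.symm, ?_, hcomm hx'y, ?_, hcomm hxy', ?_, hgen⟩
  · intro a ha b hb
    obtain ⟨c, hc⟩ := hB.cc ha hb
    have h3 : c ^ 2 = 1 := hB.cc_pow ha hb hc
    have h4 : (c : K) = 1 ∨ (c : K) = -1 := by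
      have : (c : K) ^ 2 = 1 := by rw [← Units.val_pow_eq_pow_val, h3, Units.val_one]
      exact mul_self_eq_one_iff.1 (by rw [← pow_two]; exact this)
    rcases h4 with h4 | h4
    · left
      intro v
      rw [hc.smul v, h4, one_smul]
    · right
      intro v
      rw [hc.smul v, h4, neg_smul, one_smul]
  · intro v
    rw [← mul_smul, ← pow_two, hx2, one_smul]
  · intro v
    rw [← mul_smul, ← pow_two, hx'2, one_smul]
  · intro v
    rw [hxy.smul v, hneg]
  · intro v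
    rw [hx'y'.smul v, hneg]
  · intro b hb hbp
    obtain ⟨i, j, c, hc⟩ := (hall p hp hxp hx'p).1 b hb ⟨1, by rw [hbp]; simp⟩
    have hc1 : c = 1 := by
      have h3 : b • p = (c : K) • p := by
        have h4 : ∀ (t : GV V) (n : ℕ), t • p = p → t ^ n • p = p := by
          intro t n ht
          induction n with
          | zero => simp
          | succ n ih => rw [pow_succ, mul_smul, ht, ih]
        rw [hc, mul_smul, mul_smul, h4 x' j hx'p, h4 x i hxp, scal_smul]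
      rw [hbp] at h3
      have h5 : (1 : K) • p = (c : K) • p := by rw [one_smul]; exact h3
      exact Units.ext (smul_left_injective K hp h5).symm
    have hpow : ∀ (t : GV V) (n : ℕ), t ^ 2 = 1 → t ^ n = 1 ∨ t ^ n = t := by
      intro t n ht
      rcases Nat.even_or_odd' n with ⟨m, rfl | rfl⟩
      · left; rw [pow_mul, ht, one_pow]
      · right; rw [pow_succ, pow_mul, ht, one_pow, one_mul]
    rw [hc1, map_one, one_mul] at hc
    rcases hpow x i hx2 with h3 | h3 <;> rcases hpow x' j hx'2 with h4 | h4 <;>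
      rw [h3, h4] at hc
    · left; rw [hc, one_mul]
    · right; right; left; rw [hc, one_mul]
    · right; left; rw [hc, mul_one]
    · right; right; right; exact hc

theorem ECase.main (S : SetB K V A B 2) (hs : ∀ h ∈ cl2 A, Semi K h)
    (hn : ∀ h ∈ cl2 A, ∀ b ∈ B, h * b * h⁻¹ ∈ B)
    (hK : Nat.card K = 3 ∨ Nat.card K = 5) (hE : EData K B) : Group.IsSolvable (cl2 A) := by
  classical
  have hfin : Finite (GV V) := finite_GV V
  obtain ⟨x, x', y, y', p, p', C⟩ := exists_cf S hK hE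
  set w := p' + y • p + y' • p with hw
  -- the stabilizer of `p` and `w`
  let T : Set (GV V) := {k | k ∈ cl2 A ∧ k • p = p ∧ k • w = w}
  have hTinv : ∀ k ∈ T, k⁻¹ ∈ T := by
    rintro k ⟨h1, h2, h3⟩
    exact ⟨(cl2 A).inv_mem h1, by rw [inv_smul_eq_iff, h2], by rw [inv_smul_eq_iff, h3]⟩
  have hTmul : ∀ k ∈ T, ∀ l ∈ T, k * l ∈ T := by
    rintro k ⟨h1, h2, h3⟩ l ⟨h4, h5, h6⟩
    exact ⟨(cl2 A).mul_mem h1 h4, by rw [mul_smul, h5, h2], by rw [mul_smul, h6, h3]⟩
  let f : T → Bool × Bool := fun k =>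
    (decide ((k : GV V) * x * (k : GV V)⁻¹ = x), decide ((k : GV V) • y • y' • p = y • y' • p))
  have hf : Function.Injective f := by
    rintro ⟨k, hk⟩ ⟨l, hl⟩ hkl
    have h1 : (k * x * k⁻¹ = x) ↔ (l * x * l⁻¹ = x) := by
      have := congrArg Prod.fst hkl
      simpa [f] using this
    have h2 : (k • y • y' • p = y • y' • p) ↔ (l • y • y' • p = y • y' • p) := by
      have := congrArg Prod.snd hkl
      simpa [f] using this
    have h3 : k * x * k⁻¹ = l * x * l⁻¹ := by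
      rcases C.two_cases (hn k hk.1) hk.2.1 hk.2.2 with ⟨h4, -, -⟩ | ⟨h4, -, -⟩
      · rw [h4, h1.1 h4]
      · rcases C.two_cases (hn l hl.1) hl.2.1 hl.2.2 with ⟨h5, -, -⟩ | ⟨h5, -, -⟩
        · exact absurd ((h1.2 h5).symm.trans h4) C.x_ne
        · rw [h4, h5]
    have h4 : k • y • y' • p = l • y • y' • p := by
      rcases C.sign_cases (hn k hk.1) hk.2.1 hk.2.2 with h5 | h5
      · rw [h5, h2.1 h5]
      · rcases C.sign_cases (hn l hl.1) hl.2.1 hl.2.2 with h6 | h6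
        · rw [h2.2 h6, h6]
        · rw [h5, h6]
    have hm := hTmul _ (hTinv k hk) l hl
    have h5 : k⁻¹ * l = 1 := by
      refine C.eq_one_of (hn _ hm.1) hm.2.1 hm.2.2 ?_ ?_
      · have : k⁻¹ * l * x * (k⁻¹ * l)⁻¹ = k⁻¹ * (l * x * l⁻¹) * k := by group
        rw [this, ← h3]; group
      · rw [mul_smul, ← h4, inv_smul_smul]
    apply Subtype.ext
    exact (inv_mul_eq_one.1 h5)
  have hTcard : Nat.card T ≤ 4 := by
    have := Nat.card_le_card_of_injective f hf
    simpa using this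
  -- the index of `A`
  have hidx : (A.subgroupOf (cl2 A)).index ≤ 4 := by
    refine le_trans ?_ hTcard
    let φ : T → (cl2 A) ⧸ (A.subgroupOf (cl2 A)) := fun k => ((⟨k.1, k.2.1⟩ : cl2 A) : _)
    have hφ : Function.Surjective φ := by
      intro q
      obtain ⟨h, rfl⟩ := QuotientGroup.mk_surjective q
      obtain ⟨g, hg, h1, h2⟩ := mem_cl2.1 (cl2 A |>.inv_mem h.2) p w
      -- `g⁻¹ h⁻¹` fixes `p` and `w`
      have hmem : g⁻¹ * (h : GV V)⁻¹ ∈ T := by
        refine ⟨(cl2 A).mul_mem ((cl2 A).inv_mem (le_cl2 A hg)) ((cl2 A).inv_mem h.2), ?_, ?_⟩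
        · rw [mul_smul, ← h1, inv_smul_smul]
        · rw [mul_smul, ← h2, inv_smul_smul]
      refine ⟨⟨_, hTinv _ hmem⟩, ?_⟩
      show ((⟨(g⁻¹ * (h : GV V)⁻¹)⁻¹, _⟩ : cl2 A) : (cl2 A) ⧸ (A.subgroupOf (cl2 A))) = _
      rw [QuotientGroup.eq, Subgroup.mem_subgroupOf]
      show ((g⁻¹ * (h : GV V)⁻¹)⁻¹)⁻¹ * (h : GV V) ∈ A
      have : ((g⁻¹ * (h : GV V)⁻¹)⁻¹)⁻¹ * (h : GV V) = g⁻¹ := by group
      rw [this]
      exact A.inv_mem hg
    exact Nat.card_le_card_of_surjective φ hφ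
  have hsolv : Group.IsSolvable A := S.solv
  refine solvable_of_index (A := A.subgroupOf (cl2 A)) ?_ hidx
  exact Group.isSolvable_of_isSolvable_injective
    (f := (Subgroup.subgroupOfEquivOfLe (le_cl2 A)).toMonoidHom)
    (Subgroup.subgroupOfEquivOfLe (le_cl2 A)).injective

end Main

end Cfsg.Agent.H982.TcECase
end
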